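import Cfsg.Agent.Spor3T.Tv.Coords
import Cfsg.Agent.Unitary.Simple

/-!
With an affine triangle the group is unitary over the field of four elements.
-/

set_option autoImplicit false
set_option linter.unusedSectionVars false

namespace CfsgLib.ThreeT.Tv

open Matrix CfsgLib.Unitary

universe u

variable {G : Type u} [Group G] {D : Set G} {P : Pol D} {n : ℕ} {K : Type} [Field K] [Fintype K]

local notation "hh" => Cfsg.hermForm n K 2

/-- The group of a maximal frame is unitary. -/
theorem nonempty_psu (F : Frame P (Fin n)) (hn : 4 ≤ n) (hmax : IsEmpty (Frame P (Fin (n + 1))))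
    (hK : Fintype.card K = 4) : Nonempty (G ≃* Cfsg.PSU n K 2) := by
  classical
  obtain ⟨W⟩ := exists_wt hK
  have hF : Nat.card K = 2 ^ 2 := by rw [Nat.card_eq_fintype_card, hK]; norm_num
  choose v hv using fun d : D => exists_vec (F := F) (W := W) hn hmax d
  let ε₀ : D → IsoPt n K 2 := fun d => pt hF (v d) (hv d).1 (hv d).2.1
  have hε : Function.Bijective ε₀ := by
    refine ⟨fun d e h => ?_, fun Q => ?_⟩
    · obtain ⟨a, ha⟩ := (pt_eq_iff hF).mp h
      have ha0 : a ≠ 0 := fun e0 => (hv d).1 (by rw [← ha, e0, zero_smul])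
      exact vec_inj hn hmax (hv d) (ha ▸ (hv e).smul ha0)
    · obtain ⟨w, hw, hw0, rfl⟩ := exists_pt hF Q
      obtain ⟨d, hd⟩ := vec_surj (F := F) (W := W) hn hmax hw hw0
      obtain ⟨c, -, hc⟩ := hd.unique (hv d)
      exact ⟨d, (pt_eq_iff hF).mpr ⟨c, hc.symm⟩⟩
  let ε := Equiv.ofBijective ε₀ hε
  let ψ : Cfsg.SU n K 2 →* Equiv.Perm D :=
    (ε.symm.permCongrHom.toMonoidHom).comp (MulAction.toPermHom (Cfsg.SU n K 2) (IsoPt n K 2))
  have hψ : ∀ g d, ε (ψ g d) = g • ε d := fun g d => by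
    show ε (ε.symm (g • ε.symm.symm d)) = g • ε d
    rw [Equiv.apply_symm_apply, Equiv.symm_symm]
  have hcen : Subgroup.center (Cfsg.SU n K 2) ≤ ψ.ker := by
    intro g hg
    obtain ⟨a, ha⟩ := (mem_center_SU_iff hF (by omega)).mp hg
    refine MonoidHom.mem_ker.mpr (Equiv.ext fun d => ε.injective ?_)
    rw [hψ]
    show g • ε₀ d = ε₀ d
    rw [smul_pt hF, pt_eq_iff]
    exact ⟨a, by rw [show suMat g = a • 1 from ha, Matrix.smul_mulVec, Matrix.one_mulVec]⟩
  let ψ' : Cfsg.PSU n K 2 →* Equiv.Perm D := QuotientGroup.lift _ ψ hcen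
  have hinj : Function.Injective ψ' := by
    refine (injective_iff_map_eq_one ψ').mpr fun x hx => ?_
    obtain ⟨g, rfl⟩ := QuotientGroup.mk_surjective x
    refine (QuotientGroup.eq_one_iff g).mpr (fix_all_mem_center hF (by omega) fun Q => ?_)
    obtain ⟨d, rfl⟩ := ε.surjective Q
    rw [← hψ, show ψ g = 1 from hx]
    rfl
  -- a transvection acts as the member of its centre
  have htv : ∀ (A : Cfsg.SU n K 2) (x : D), suMat A = Cfsg.unitaryTransvection n 2 (v x) 1 → ψ A = P.perm x := by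
    intro A x hA
    refine Equiv.ext fun d => ε.injective ?_
    rw [hψ]
    show A • ε₀ d = ε₀ (P.t x d)
    rw [smul_pt hF, pt_eq_iff]
    obtain ⟨c, -, hc⟩ := (hv (P.t x d)).unique (vec_t hn hmax (hv x) (hv d))
    refine ⟨c, ?_⟩
    rw [← hc, hA, utv_mulVec, one_mul]
    rfl
  refine P.nonempty_mulEquiv ψ' hinj ?_ fun x => ?_
  · rintro _ ⟨q, rfl⟩
    obtain ⟨g, rfl⟩ := QuotientGroup.mk_surjective q
    show ψ g ∈ _
    have hg : g ∈ tvGroup n K 2 := by
      rw [tvGroup_eq_top hF (by omega) (by omega)]; trivial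
    induction hg using Subgroup.closure_induction with
    | mem A hA =>
      obtain ⟨w, c, hw, hA⟩ := hA
      by_cases h1 : A = 1
      · rw [h1, map_one]; exact one_mem _
      have hw0 : w ≠ 0 := fun e => h1 (su_ext fun x => by
        rw [hA, e, utv_mulVec, smul_zero, add_zero, suMat_one, Matrix.one_mulVec])
      have hct : c + c ^ 2 = 0 := (utv_preserves_iff hF hw0 hw c).mp fun x y => by
        rw [← hA]; exact su_preserves A x y
      have hc0 : c ≠ 0 := fun e => h1 (su_ext fun x => by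
        rw [hA, e, utv_mulVec, zero_mul, zero_smul, add_zero, suMat_one, Matrix.one_mulVec])
      have hc1 : c = 1 := by
        have h2 : c = c ^ 2 := W.add_eq_zero.mp hct
        exact (mul_left_cancel₀ hc0 (by rw [mul_one, ← pow_two]; exact h2)).symm
      obtain ⟨x, hx⟩ := vec_surj (F := F) (W := W) hn hmax hw0 hw
      obtain ⟨a, ha, hax⟩ := hx.unique (hv x)
      refine ⟨x, (htv A x ?_).symm⟩
      rw [hA, hc1, hax, utv_smul hF, one_mul, W.cube ha]
    | one => rw [map_one]; exact one_mem _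
    | mul p q _ _ hp hq => rw [map_mul]; exact mul_mem hp hq
    | inv p _ hp => rw [map_inv]; exact inv_mem hp
  · have hc : (1 : K) + 1 ^ 2 = 0 := by rw [one_pow]; exact W.add_self 1
    exact ⟨QuotientGroup.mk (suTv n (v x) 1 (hv x).2.1 hc hF), htv _ x rfl⟩

end CfsgLib.ThreeT.Tv
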