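import Mathlib
import Cfsg.Prelude.Def_Classical

/-!
The field of four elements as `0` and the powers of a cube root of unity; vectors over it with the hermitian form.
-/

set_option autoImplicit false
set_option linter.unusedSectionVars false

namespace CfsgLib.ThreeT.Tv

variable {K : Type} [Field K]

/-- The cube roots of unity parametrise the non-zero elements. -/
structure Wt (K : Type) [Field K] where
  wt : ZMod 3 → K
  add : ∀ a b, wt (a + b) = wt a * wt b
  ne : ∀ a, wt a ≠ 0
  inj : Function.Injective wt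
  surj : ∀ x : K, x ≠ 0 → ∃ a, wt a = x
  two : (2 : K) = 0

/-- A field of four elements has the parametrisation. -/
theorem exists_wt [Fintype K] (hK : Fintype.card K = 4) : Nonempty (Wt K) := by
  classical
  obtain ⟨ω, hω⟩ := IsCyclic.exists_generator (α := Kˣ)
  have hu : Fintype.card Kˣ = 3 := by rw [Fintype.card_units, hK]
  have ho : orderOf ω = 3 := by
    rw [orderOf_eq_card_of_forall_mem_zpowers hω, Nat.card_eq_fintype_card, hu]
  have htwo : (2 : K) = 0 := by
    have h4 : ((4 : ℕ) : K) = 0 := hK ▸ Nat.cast_card_eq_zero K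
    have : (2 : K) * 2 = 0 := by rw [← h4]; norm_num
    exact mul_self_eq_zero.mp this
  refine ⟨⟨fun a => ((ω ^ a.val : Kˣ) : K), fun a b => ?_, fun a => Units.ne_zero _, fun a b h => ?_,
    fun x hx => ?_, htwo⟩⟩
  · have h1 : (a + b).val = (a.val + b.val) % orderOf ω := by rw [ho]; exact ZMod.val_add a b
    rw [← Units.val_mul, ← pow_add, h1, pow_mod_orderOf]
  · have h' := Units.ext h
    rw [pow_inj_mod, ho] at h'
    exact ZMod.val_injective 3 (by
      rwa [Nat.mod_eq_of_lt a.val_lt, Nat.mod_eq_of_lt b.val_lt] at h')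
  · obtain ⟨k, hk⟩ := mem_powers_iff_mem_zpowers.mpr (hω (Units.mk0 x hx))
    refine ⟨(k : ZMod 3), ?_⟩
    have h1 : ω ^ (k : ZMod 3).val = ω ^ k := by rw [ZMod.val_natCast, ← ho, pow_mod_orderOf]
    rw [h1]
    exact congrArg Units.val hk

variable (W : Wt K)

theorem Wt.zero : W.wt 0 = 1 :=
  mul_right_cancel₀ (W.ne 0) (by rw [← W.add, add_zero, one_mul])

theorem Wt.inv (a : ZMod 3) : W.wt (-a) * W.wt a = 1 := by rw [← W.add, neg_add_cancel, W.zero]

theorem Wt.sq (a : ZMod 3) : W.wt a ^ 2 = W.wt (-a) := by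
  rw [pow_two, ← W.add]
  exact congrArg W.wt ((show ∀ a : ZMod 3, a + a = -a by decide) a)

include W in
theorem Wt.cube {x : K} (hx : x ≠ 0) : x ^ 3 = 1 := by
  obtain ⟨a, rfl⟩ := W.surj x hx
  rw [pow_succ, W.sq, W.inv]

include W in
theorem Wt.pow_four (x : K) : (x ^ 2) ^ 2 = x := by
  by_cases hx : x = 0
  · subst hx; simp
  · rw [← pow_mul, show 2 * 2 = 3 + 1 from rfl, pow_succ, W.cube hx, one_mul]

include W in
theorem Wt.add_self (x : K) : x + x = 0 := by rw [← two_mul, W.two, zero_mul]

include W in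
theorem Wt.add_eq_zero {x y : K} : x + y = 0 ↔ x = y :=
  ⟨fun h => by linear_combination h - y * W.two, fun h => h ▸ W.add_self x⟩

include W in
theorem Wt.add_sq (x y : K) : (x + y) ^ 2 = x ^ 2 + y ^ 2 := by linear_combination (x * y) * W.two

include W in
theorem Wt.sum_sq {α : Type*} (s : Finset α) (f : α → K) : (∑ i ∈ s, f i) ^ 2 = ∑ i ∈ s, f i ^ 2 := by
  classical
  induction s using Finset.induction with
  | empty => simp
  | insert a s ha ih => rw [Finset.sum_insert ha, Finset.sum_insert ha, W.add_sq, ih]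

include W in
theorem Wt.card (hfin : Finite K) : Nat.card K = 4 := by
  classical
  haveI := Fintype.ofFinite K
  let f : Option (ZMod 3) → K := fun o => o.elim 0 W.wt
  have hf : Function.Bijective f := by
    refine ⟨fun a b h => ?_, fun x => ?_⟩
    · rcases a with _ | a <;> rcases b with _ | b
      · rfl
      · exact absurd h.symm (W.ne b)
      · exact absurd h (W.ne a)
      · exact congrArg some (W.inj h)
    · by_cases hx : x = 0
      · exact ⟨none, hx.symm⟩
      · obtain ⟨a, ha⟩ := W.surj x hx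
        exact ⟨some a, ha⟩
  rw [← Nat.card_eq_of_bijective f hf, Finite.card_option, Nat.card_zmod]

/-! ### The form -/

variable {n : ℕ}

local notation "hh" => Cfsg.hermForm n K 2

theorem Wt.hh_add_left (u v w : Fin n → K) : hh (u + v) w = hh u w + hh v w := by
  simp [Cfsg.hermForm, add_mul, Finset.sum_add_distrib]

theorem Wt.hh_smul_left (c : K) (u v : Fin n → K) : hh (c • u) v = c * hh u v := by
  simp [Cfsg.hermForm, Finset.mul_sum, mul_assoc]

include W in
theorem Wt.hh_add_right (u v w : Fin n → K) : hh u (v + w) = hh u v + hh u w := by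
  simp [Cfsg.hermForm, W.add_sq, mul_add, Finset.sum_add_distrib]

theorem Wt.hh_smul_right (c : K) (u v : Fin n → K) : hh u (c • v) = c ^ 2 * hh u v := by
  simp [Cfsg.hermForm, Finset.mul_sum, mul_pow, mul_left_comm]

include W in
theorem Wt.hh_swap (u v : Fin n → K) : hh v u = (hh u v) ^ 2 := by
  simp only [Cfsg.hermForm]
  rw [W.sum_sq]
  refine Finset.sum_congr rfl fun i _ => ?_
  rw [mul_pow, W.pow_four, mul_comm]

include W in
theorem Wt.hh_comm (u v : Fin n → K) : hh u v = 0 ↔ hh v u = 0 := by
  rw [W.hh_swap u v, pow_eq_zero_iff (by norm_num)]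

open Classical in
/-- The support of a vector. -/
noncomputable def supp (v : Fin n → K) : Finset (Fin n) := Finset.univ.filter fun i => v i ≠ 0

theorem mem_supp {v : Fin n → K} {i : Fin n} : i ∈ supp v ↔ v i ≠ 0 := by
  classical
  simp [supp]

theorem supp_smul {v : Fin n → K} {c : K} (hc : c ≠ 0) : supp (c • v) = supp v := by
  ext i
  simp [mem_supp, hc]

include W in
theorem Wt.hh_self (v : Fin n → K) : hh v v = ((supp v).card : K) := by
  classical
  rw [Finset.card_eq_sum_ones, Nat.cast_sum, Nat.cast_one, supp, Finset.sum_filter]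
  refine Finset.sum_congr rfl fun i _ => ?_
  by_cases h : v i = 0
  · simp [h]
  · rw [if_pos h, ← pow_succ', W.cube h]

include W in
theorem Wt.iso_iff (v : Fin n → K) : hh v v = 0 ↔ Even (supp v).card := by
  rw [W.hh_self]
  constructor
  · intro h
    by_contra hodd
    obtain ⟨k, hk⟩ := Nat.not_even_iff_odd.mp hodd
    rw [hk, Nat.cast_add, Nat.cast_mul, Nat.cast_ofNat, W.two, zero_mul, zero_add, Nat.cast_one] at h
    exact one_ne_zero h
  · rintro ⟨k, hk⟩
    rw [hk, Nat.cast_add, W.add_self]

/-- The transvection of a vector. -/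
def tau (v x : Fin n → K) : Fin n → K := x + hh x v • v

theorem tau_apply (v x : Fin n → K) (i : Fin n) : tau v x i = x i + hh x v * v i := rfl

include W in
theorem Wt.hh_tau (v x y : Fin n → K) : hh (tau v x) y = hh x (tau v y) := by
  rw [tau, tau, Wt.hh_add_left, Wt.hh_smul_left, W.hh_add_right, Wt.hh_smul_right, ← W.hh_swap y v, mul_comm (hh v y)]

include W in
theorem Wt.hh_tau_self {v : Fin n → K} (hv : hh v v = 0) {x : Fin n → K} (hx : hh x x = 0) :
    hh (tau v x) (tau v x) = 0 := by
  rw [tau, Wt.hh_add_left, W.hh_add_right, W.hh_add_right, Wt.hh_smul_left, Wt.hh_smul_left, Wt.hh_smul_right,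
    Wt.hh_smul_right, hv, hx, W.hh_swap x v]
  linear_combination (hh x v * hh x v ^ 2) * W.two

include W in
theorem Wt.tau_smul {a : K} (ha : a ≠ 0) (v x : Fin n → K) : tau (a • v) x = tau v x := by
  funext i
  rw [tau_apply, tau_apply, Wt.hh_smul_right, Pi.smul_apply, smul_eq_mul]
  linear_combination (hh x v * v i) * W.cube ha

theorem tau_smul_right (v x : Fin n → K) (a : K) : tau v (a • x) = a • tau v x := by
  funext i
  simp only [tau_apply, Wt.hh_smul_left, Pi.smul_apply, smul_eq_mul]
  ring

end CfsgLib.ThreeT.Tv
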