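import Cfsg.Agent.Spor3T.Tv.Maximal
import Cfsg.Agent.Spor3T.Tv.Weight

/-!
Coordinates relative to a maximal frame: every member is in the place of an isotropic point of a unitary space over
the field of four elements.
-/

set_option autoImplicit false
set_option linter.unusedSectionVars false

namespace CfsgLib.ThreeT.Tv

universe u

variable {G : Type u} [Group G] {D : Set G} {P : Pol D} {n : ℕ} {K : Type} [Field K] [Finite K]

local notation "hh" => Cfsg.hermForm n K 2

/-- The vector of a frame member. -/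
noncomputable def fv (W : Wt K) (i j : Fin n) (a : ZMod 3) : Fin n → K :=
  Pi.single i 1 + Pi.single j (W.wt a)

variable (F : Frame P (Fin n)) (W : Wt K)

/-- A member commutes with the frame as the transvection of a vector does. -/
def Pat (d : D) (v : Fin n → K) : Prop :=
  ∀ i j a, i ≠ j → (Com d (F.p i j a) ↔ v i = W.wt (-a) * v j)

/-- A non-zero isotropic vector for a member. -/
def Vec (d : D) (v : Fin n → K) : Prop := v ≠ 0 ∧ hh v v = 0 ∧ Pat F W d v

variable {F W} {d e : D} {v : Fin n → K} {i j k l : Fin n} {a b : ZMod 3}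

theorem fv_left (h : i ≠ j) : fv W i j a i = 1 := by simp [fv, h]

theorem fv_right (h : i ≠ j) : fv W i j a j = W.wt a := by simp [fv, Ne.symm h]

theorem fv_other (h1 : k ≠ i) (h2 : k ≠ j) : fv W i j a k = 0 := by simp [fv, h1, h2]

theorem hh_fv (v : Fin n → K) (h : i ≠ j) : hh v (fv W i j a) = v i + W.wt (-a) * v j := by
  classical
  simp only [Cfsg.hermForm]
  rw [Finset.sum_eq_add i j h (fun k _ hk => by simp [fv, hk.1, hk.2]) (by simp) (by simp), fv_left h, fv_right h,
    W.sq]
  ring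

theorem hh_fv_eq_zero (v : Fin n → K) (h : i ≠ j) : hh v (fv W i j a) = 0 ↔ v i = W.wt (-a) * v j := by
  rw [hh_fv v h, W.add_eq_zero]

theorem Pat.com_iff (hv : Pat F W d v) (h : i ≠ j) : Com d (F.p i j a) ↔ hh v (fv W i j a) = 0 := by
  rw [hh_fv_eq_zero v h]; exact hv i j a h

theorem Pat.smul (hv : Pat F W d v) {c : K} (hc : c ≠ 0) : Pat F W d (c • v) := fun i j a h => by
  rw [hv i j a h, Pi.smul_apply, Pi.smul_apply, smul_eq_mul, smul_eq_mul, mul_left_comm, mul_right_inj' hc]

theorem Vec.smul (hv : Vec F W d v) {c : K} (hc : c ≠ 0) : Vec F W d (c • v) :=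
  ⟨smul_ne_zero hc hv.1, by rw [Wt.hh_smul_left, Wt.hh_smul_right, hv.2.1, mul_zero, mul_zero], hv.2.2.smul hc⟩

theorem Pat.all_iff (hv : Pat F W d v) (h : i ≠ j) : F.All d i j ↔ v i = 0 ∧ v j = 0 := by
  refine ⟨fun hall => ?_, fun h0 a => (hv i j a h).mpr (by rw [h0.1, h0.2, mul_zero])⟩
  have h0 := (hv i j 0 h).mp (hall 0)
  rw [neg_zero, W.zero, one_mul] at h0
  have h1 := (hv i j 1 h).mp (hall 1)
  rw [h0] at h1
  have hj : v j = 0 := by
    by_contra hne
    have : W.wt (-1) = W.wt 0 := by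
      rw [W.zero]; exact (mul_right_cancel₀ hne (h1.symm.trans (one_mul _).symm))
    exact absurd (W.inj this) (by decide)
  exact ⟨h0.trans hj, hj⟩

theorem wt_neg_mul (a : ZMod 3) (x : K) : x = W.wt (-a) * (W.wt a * x) := by
  rw [← mul_assoc, W.inv, one_mul]

theorem Pat.one_of (hv : Pat F W d v) (h : i ≠ j) (hi : v i ≠ 0) (ha : v j = W.wt a * v i) : F.One d i j a := by
  intro b
  rw [hv i j b h, ha, ← mul_assoc, ← W.add, eq_comm, mul_left_eq_self₀, or_iff_left hi]
  constructor
  · intro e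
    have := W.inj (e.trans W.zero.symm)
    exact (neg_add_eq_zero.mp this)
  · rintro rfl
    rw [neg_add_cancel, W.zero]

theorem exists_ratio {x y : K} (hx : x ≠ 0) (hy : y ≠ 0) : ∃ a, y = W.wt a * x := by
  obtain ⟨a, ha⟩ := W.surj (y / x) (div_ne_zero hy hx)
  exact ⟨a, by rw [ha, div_mul_cancel₀ y hx]⟩

theorem Vec.exists_pair (hv : Vec F W d v) : ∃ i j, i ≠ j ∧ v i ≠ 0 ∧ v j ≠ 0 := by
  obtain ⟨i, hi⟩ : ∃ i, v i ≠ 0 := Function.ne_iff.mp hv.1
  have heven := (W.iso_iff v).mp hv.2.1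
  by_contra hc
  push Not at hc
  have hs : supp v = {i} := Finset.eq_singleton_iff_unique_mem.mpr
    ⟨mem_supp.mpr hi, fun x hx => by_contra fun hne => mem_supp.mp hx (hc i x (Ne.symm hne) hi)⟩
  rw [hs, Finset.card_singleton] at heven
  exact absurd heven (by decide)

theorem Vec.unique {w : Fin n → K} (hv : Vec F W d v) (hw : Vec F W d w) : ∃ c : K, c ≠ 0 ∧ w = c • v := by
  obtain ⟨i, j, hij, hi, hj⟩ := hv.exists_pair
  obtain ⟨a, ha⟩ := exists_ratio (W := W) hi hj
  have hone := hv.2.2.one_of hij hi ha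
  have hwi : w i ≠ 0 := by
    intro h0
    have h1 := (hw.2.2 i j a hij).mp hone.com
    rw [h0] at h1
    exact hone.not_all ((hw.2.2.all_iff hij).mpr ⟨h0, (mul_eq_zero.mp h1.symm).resolve_left (W.ne _)⟩)
  refine ⟨w i / v i, div_ne_zero hwi hi, funext fun k => ?_⟩
  rw [Pi.smul_apply, smul_eq_mul]
  by_cases hki : k = i
  · subst hki; rw [div_mul_cancel₀ _ hi]
  by_cases hk : v k = 0
  · rw [hk, mul_zero]
    by_contra hwk
    obtain ⟨b, hb⟩ := exists_ratio (W := W) hwi hwk
    have h1 := (hv.2.2 i k b (Ne.symm hki)).mp (hw.2.2.one_of (Ne.symm hki) hwi hb).com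
    rw [hk, mul_zero] at h1
    exact hi h1
  · obtain ⟨b, hb⟩ := exists_ratio (W := W) hi hk
    have h1 := (hw.2.2 i k b (Ne.symm hki)).mp (hv.2.2.one_of (Ne.symm hki) hi hb).com
    rw [hb, h1]
    field_simp
    rw [mul_assoc, W.inv, mul_one]

/-- A frame member has its vector. -/
theorem fv_pat (h : i ≠ j) : Pat F W (F.p i j a) (fv W i j a) := by
  intro x y b hxy
  have hwt : ∀ c e : ZMod 3, W.wt c = W.wt e ↔ c = e := fun c e => W.inj.eq_iff
  have h01 : (0 : K) ≠ 1 := zero_ne_one
  by_cases hxi : x = i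
  · subst hxi
    by_cases hyj : y = j
    · subst hyj
      rw [fv_left h, fv_right h, ← W.add, ← W.zero, hwt]
      constructor
      · intro hc
        rw [show a = b from by_contra fun hab => (F.same h hab).1 hc, neg_add_cancel]
      · intro hc
        rw [show b = a from neg_add_eq_zero.mp hc.symm]
    · rw [fv_left h, fv_other hxy.symm hyj, mul_zero]
      exact iff_of_false (F.not_com_adj h hxy (Ne.symm hyj) a b) h01.symm
  by_cases hxj : x = j
  · subst hxj
    by_cases hyi : y = i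
    · subst hyi
      rw [fv_left h, fv_right h, mul_one, hwt, ← F.symm b hxy]
      constructor
      · intro hc; exact by_contra fun hab => (F.same h hab).1 hc
      · rintro rfl; rfl
    · rw [fv_right h, fv_other hyi hxy.symm, mul_zero, ← F.symm a h]
      exact iff_of_false (F.not_com_adj h.symm hxy (Ne.symm hyi) (-a) b) (W.ne a)
  by_cases hyi : y = i
  · subst hyi
    rw [fv_other hxi hxj, fv_left h, mul_one, ← F.symm b hxy]
    exact iff_of_false (F.not_com_adj h hxy.symm (Ne.symm hxj) a (-b)) (W.ne _).symm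
  by_cases hyj : y = j
  · subst hyj
    rw [fv_other hxi hxj, fv_right h, ← F.symm b hxy, ← F.symm a h, ← W.add]
    exact iff_of_false (F.not_com_adj h.symm hxy.symm (Ne.symm hxi) (-a) (-b)) (W.ne _).symm
  rw [fv_other hxi hxj, fv_other hyi hyj, mul_zero]
  exact iff_of_true (F.disj a b h hxy (Ne.symm hxi) (Ne.symm hyi) (Ne.symm hxj) (Ne.symm hyj)) rfl

theorem fv_vec (h : i ≠ j) : Vec F W (F.p i j a) (fv W i j a) := by
  refine ⟨fun e => ?_, ?_, fv_pat h⟩
  · have := congrFun e i; rw [fv_left h] at this; exact one_ne_zero this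
  · rw [hh_fv_eq_zero _ h, fv_left h, fv_right h, W.inv]

theorem exists_four (hn : 4 ≤ n) : ∃ i j k l : Fin n, Four i j k l :=
  ⟨⟨0, by omega⟩, ⟨1, by omega⟩, ⟨2, by omega⟩, ⟨3, by omega⟩, by
    constructor <;> simp [Fin.ext_iff]⟩

theorem five_of (hn : 4 ≤ n) (F : Frame P (Fin n)) {x y : D} (hxy : x ≠ y) (cxy : Com x y) :
    (Ln x y).ncard = 5 := by
  obtain ⟨i, j, k, l, q⟩ := exists_four hn
  exact F.five q hxy cxy

section coords

variable (hn : 4 ≤ n)
include hn

/-- The three further points of the line of a frame member and an orthogonal member. -/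
theorem line_vec {s : D} {vs : Fin n → K} (hij : i ≠ j) (hs : Vec F W s vs) (hi : vs i = 0) (hj : vs j = 0) :
    F.p i j a ≠ s ∧ Com (F.p i j a) s ∧
      (∀ c : K, c ≠ 0 → ∃ r ∈ Ln (F.p i j a) s, r ≠ F.p i j a ∧ r ≠ s ∧ Vec F W r (fv W i j a + c • vs)) ∧
      ∀ r ∈ Ln (F.p i j a) s, r ≠ F.p i j a → r ≠ s → ∃ c : K, c ≠ 0 ∧ Vec F W r (fv W i j a + c • vs) := by
  classical
  haveI := P.finD
  set p := F.p i j a
  have hall : F.All s i j := (hs.2.2.all_iff hij).mpr ⟨hi, hj⟩
  have hps : p ≠ s := fun e => by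
    have h := hall (a + 1)
    rw [← e] at h
    exact (F.same hij (show a + 1 ≠ a by simp)).1 h.symm
  have cps : Com p s := (hall a).symm
  obtain ⟨k, hk⟩ : ∃ k, vs k ≠ 0 := Function.ne_iff.mp hs.1
  have hki : k ≠ i := fun e => hk (e ▸ hi)
  have hkj : k ≠ j := fun e => hk (e ▸ hj)
  have hfwd : ∀ c : K, c ≠ 0 → ∃ r ∈ Ln p s, r ≠ p ∧ r ≠ s ∧ Vec F W r (fv W i j a + c • vs) := by
    intro c hc
    have hc' : c ≠ 0 := hc
    obtain ⟨b, hb⟩ := W.surj (c * vs k) (mul_ne_zero hc hk)
    obtain ⟨r, hr, hcr⟩ := P.one hps cps (F.p i k b)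
    have hnp : ¬ Com (F.p i k b) p := F.not_com_adj hki.symm hij hkj b a
    have hrp : r ≠ p := fun e => hnp (e ▸ hcr)
    have hrs : r ≠ s := fun e => by
      have := (hs.2.2 i k b (Ne.symm hki)).mp (e ▸ hcr.symm)
      rw [hi] at this
      exact hk ((mul_eq_zero.mp this.symm).resolve_left (W.ne _))
    have h1 : F.One r i j a := fun x =>
      ⟨fun hx => by_contra fun hne => hrs (P.unique hps cps hr (right_mem_Ln _ _) hx.symm (hall x).symm
        (left_mem_Ln _ _) (F.same hij hne).1), fun hx => hx ▸ P.com_of_mem hps cps hr (left_mem_Ln _ _)⟩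
    have h2 : F.One r i k b := by
      rcases F.cases3 r (Ne.symm hki) with h | ⟨b', h⟩ | h
      · exact absurd h ((h1.swap hij).not_all_adj hij.symm (Ne.symm hki) (Ne.symm hkj))
      · rwa [← (h b).mp hcr.symm] at h
      · exact absurd hcr.symm (h b)
    refine ⟨r, hr, hrp, hrs, ?_⟩
    set u := fv W i j a + c • vs with hu
    have hux : ∀ x, u x = fv W i j a x + c * vs x := fun x => rfl
    have hui : u i = 1 := by rw [hux, fv_left hij, hi, mul_zero, add_zero]
    have huj : u j = W.wt a := by rw [hux, fv_right hij, hj, mul_zero, add_zero]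
    have hcol : ∀ y, y ≠ i → y ≠ j → vs y ≠ 0 → ∃ m, u y = W.wt m ∧ F.One r i y m ∧ F.One r j y (-a + m) := by
      intro y hyi hyj hy
      have main : ∃ m, u y = W.wt m ∧ F.One r i y m := by
        have huy : u y = c * vs y := by rw [hux, fv_other hyi hyj, zero_add]
        by_cases hyk : y = k
        · subst hyk; exact ⟨b, huy.trans hb.symm, h2⟩
        obtain ⟨m, hm⟩ := exists_ratio (W := W) hk hy
        have hsq := (hs.2.2.one_of (Ne.symm hyk) hk hm).com
        have hrq : Com r (F.p k y m) :=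
          (hr _ (F.disj m a (Ne.symm hyk) hij hki hkj hyi hyj) hsq.symm).symm
        refine ⟨b + m, ?_, h2.comp (Ne.symm hki) (Ne.symm hyk) (Ne.symm hyi) hrq⟩
        rw [huy, hm, W.add, hb]; ring
      obtain ⟨m, hm, hone⟩ := main
      exact ⟨m, hm, hone, (h1.swap hij).comp hij.symm (Ne.symm hyi) (Ne.symm hyj) hone.com⟩
    refine ⟨fun e => one_ne_zero (hui.symm.trans (congrFun e i)), ?_, ?_⟩
    · have h0 : hh vs (fv W i j a) = 0 := (hs.2.2.com_iff hij).mp cps.symm
      rw [hu, Wt.hh_add_left, W.hh_add_right, W.hh_add_right, Wt.hh_smul_left, Wt.hh_smul_left, Wt.hh_smul_right,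
        Wt.hh_smul_right, (fv_vec (F := F) (W := W) hij).2.1, (W.hh_comm _ _).mp h0, h0, hs.2.1]
      ring
    · intro x y z hxy
      have key : ∀ x y z, x ≠ y → (x = i ∨ x = j) → y ≠ i → y ≠ j → vs y ≠ 0 →
          (Com r (F.p x y z) ↔ u x = W.wt (-z) * u y) := by
        intro x y z hxy hx hyi hyj hy
        obtain ⟨m, hm, hm1, hm2⟩ := hcol y hyi hyj hy
        rcases hx with rfl | rfl
        · rw [hm1, hui, hm, ← W.add, ← W.zero, W.inj.eq_iff, eq_comm (a := (0 : ZMod 3)), neg_add_eq_zero]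
        · rw [hm2, huj, hm, ← W.add, W.inj.eq_iff]
          exact ⟨fun e => by rw [e]; abel, fun e => by rw [e]; abel⟩
      by_cases hA : Com p (F.p x y z)
      · have hA' := (fv_pat (W := W) (a := a) hij x y z hxy).mp hA
        by_cases hB : Com s (F.p x y z)
        · have hB' := (hs.2.2 x y z hxy).mp hB
          refine iff_of_true (hr _ hA.symm hB.symm).symm ?_
          rw [hux, hux, hA', hB']; ring
        · refine iff_of_false (fun hc => hB (P.all_of_two hps cps (left_mem_Ln _ _) hr (Ne.symm hrp) hA.symm hc.symm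
            (right_mem_Ln _ _)).symm) fun hc => hB ((hs.2.2 x y z hxy).mpr ?_)
          rw [hux, hux, hA'] at hc
          exact mul_left_cancel₀ hc' (by linear_combination hc)
      · have hA' := fun h => hA ((fv_pat (W := W) (a := a) hij x y z hxy).mpr h)
        by_cases hB : Com s (F.p x y z)
        · have hB' := (hs.2.2 x y z hxy).mp hB
          refine iff_of_false (fun hc => hA (P.all_of_two hps cps (right_mem_Ln _ _) hr (Ne.symm hrs) hB.symm hc.symm
            (left_mem_Ln _ _)).symm) fun hc => hA' ?_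
          rw [hux, hux, hB'] at hc
          linear_combination hc
        · by_cases hxin : x = i ∨ x = j
          · by_cases hyin : y = i ∨ y = j
            · refine absurd ((hs.2.2 x y z hxy).mpr ?_) hB
              rcases hxin with rfl | rfl <;> rcases hyin with rfl | rfl <;> simp [hi, hj]
            rw [not_or] at hyin
            refine key x y z hxy hxin hyin.1 hyin.2 fun h0 => hB ((hs.2.2 x y z hxy).mpr ?_)
            rcases hxin with rfl | rfl <;> simp [hi, hj, h0]
          · rw [not_or] at hxin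
            by_cases hyin : y = i ∨ y = j
            · have hx0 : vs x ≠ 0 := fun h0 => hB ((hs.2.2 x y z hxy).mpr (by
                rcases hyin with rfl | rfl <;> simp [hi, hj, h0]))
              rw [← F.symm z hxy, key y x (-z) hxy.symm hyin hxin.1 hxin.2 hx0, neg_neg]
              constructor
              · intro e; rw [e, ← wt_neg_mul]
              · intro e; rw [e, ← mul_assoc, ← W.add, add_neg_cancel, W.zero, one_mul]
            · rw [not_or] at hyin
              exact absurd (F.disj a z hij hxy (Ne.symm hxin.1) (Ne.symm hyin.1) (Ne.symm hxin.2) (Ne.symm hyin.2)) hA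
  refine ⟨hps, cps, hfwd, fun r hr hrp hrs => ?_⟩
  choose f hf hfp hfs hfv using fun c : {c : K // c ≠ 0} => hfwd c.1 c.2
  have hinj : Function.Injective f := by
    intro c c' e
    obtain ⟨t, -, ht⟩ := (hfv c).unique (e ▸ hfv c')
    have h1 := congrFun ht i
    simp only [Pi.add_apply, Pi.smul_apply, smul_eq_mul, fv_left hij, hi, mul_zero, add_zero, mul_one] at h1
    have h2 := congrFun ht k
    rw [← h1, one_smul, Pi.add_apply, Pi.add_apply, Pi.smul_apply, Pi.smul_apply, fv_other hki hkj, zero_add,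
      zero_add, smul_eq_mul, smul_eq_mul] at h2
    exact Subtype.ext (mul_right_cancel₀ hk h2).symm
  have hcard : Nat.card {c : K // c ≠ 0} = 3 := by
    haveI := Fintype.ofFinite K
    rw [Nat.card_eq_fintype_card, Fintype.card_subtype_compl, Fintype.card_subtype_eq, ← Nat.card_eq_fintype_card,
      W.card inferInstance]
  have hL : Set.range f = Ln p s \ {p, s} := by
    refine Set.eq_of_subset_of_ncard_le ?_ ?_
    · rintro w ⟨c, rfl⟩
      exact ⟨hf c, fun h => h.elim (hfp c) (hfs c)⟩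
    · rw [Set.ncard_range_of_injective hinj, hcard,
        Set.ncard_sdiff (by rintro w (rfl | rfl); exacts [left_mem_Ln _ _, right_mem_Ln _ _]), Set.ncard_pair hps,
        five_of hn F hps cps]
  obtain ⟨c, rfl⟩ : r ∈ Set.range f := hL ▸ ⟨hr, fun h => h.elim hrp hrs⟩
  exact ⟨c.1, c.2, hfv c⟩

variable (hmax : IsEmpty (Frame P (Fin (n + 1))))
include hmax

theorem exists_one_pair (d : D) (hij : i ≠ j) (h : Com d (F.p i j a)) :
    ∃ i j a, i ≠ j ∧ F.One d i j a := by
  by_contra hc
  rcases F.cases3 d hij with hA | ⟨b, hb⟩ | hN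
  · exact F.not_phi (Nat.card_fin n) (by omega) hmax d
      (F.phi_of (Nat.card_fin n) (by omega) hmax hij hA fun k l hkl b hb => hc ⟨k, l, b, hkl, hb⟩)
  · exact hc ⟨i, j, b, hij, hb⟩
  · exact hN a h

/-- A member commuting with some frame member has a vector. -/
theorem exists_vec_of_com (d : D) : ∀ {i j : Fin n} {a : ZMod 3}, i ≠ j → Com d (F.p i j a) →
    ∃ v, Vec F W d v := by
  induction hN : {p : Fin n × Fin n | p.1 ≠ p.2 ∧ ¬ F.All d p.1 p.2}.ncard using Nat.strong_induction_on
    generalizing d with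
  | _ N ih =>
    intro i₀ j₀ a₀ h₀ hc₀
    obtain ⟨i, j, a, hij, hone⟩ := exists_one_pair hn hmax d h₀ hc₀
    by_cases hd : d = F.p i j a
    · exact ⟨_, hd ▸ fv_vec hij⟩
    obtain ⟨s, hs, hsp, -, hall, hlt⟩ := F.reduce hij hone hd
    obtain ⟨vs, hvs⟩ := ih _ (hN ▸ hlt) s rfl hij (hall 0)
    obtain ⟨hvi, hvj⟩ := (hvs.2.2.all_iff hij).mp hall
    obtain ⟨-, -, -, hback⟩ := line_vec (a := a) hn hij hvs hvi hvj
    have hL : Ln (F.p i j a) s = Ln (F.p i j a) d :=
      P.Ln_eq (Ne.symm hd) hone.com.symm (left_mem_Ln _ _) hs (Ne.symm hsp)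
    obtain ⟨c, -, hv⟩ := hback d (hL ▸ right_mem_Ln _ _) hd fun e => hone.not_all (e ▸ hall)
    exact ⟨_, hv⟩

/-- No member avoids the frame. -/
theorem exists_com (W : Wt K) (d : D) : ∃ i j a, i ≠ j ∧ Com d (F.p i j a) := by
  classical
  haveI := P.finD
  haveI := Fintype.ofFinite K
  by_contra hno
  push Not at hno
  obtain ⟨i, j, k, l, q⟩ := exists_four hn
  let S : Finset (Fin n) := {i, j, k, l}
  obtain ⟨hps, cps, -, hback⟩ := line_vec (a := 0) hn q.ij (fv_vec (F := F) (W := W) (a := 0) q.kl)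
    (fv_other q.ik q.il) (fv_other q.jk q.jl)
  obtain ⟨r, hr, hdr⟩ := P.one hps cps d
  have hrp : r ≠ F.p i j 0 := fun e => hno i j 0 q.ij (e ▸ hdr)
  have hrs : r ≠ F.p k l 0 := fun e => hno k l 0 q.kl (e ▸ hdr)
  obtain ⟨c, hc, hur⟩ := hback r hr hrp hrs
  set u := fv W i j 0 + c • fv W k l 0
  have hu : ∀ x ∈ S, u x ≠ 0 := by
    intro x hx
    simp only [S, Finset.mem_insert, Finset.mem_singleton] at hx
    rcases hx with rfl | rfl | rfl | rfl
    · simp [u, fv_left q.ij, fv_other q.ik q.il]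
    · simp [u, fv_right q.ij, fv_other q.jk q.jl, W.ne]
    · simp [u, fv_left q.kl, fv_other q.ik.symm q.jk.symm, hc]
    · simp [u, fv_right q.kl, fv_other q.il.symm q.jl.symm, W.ne, hc]
  have hdne : d ≠ r := fun e => hno i j 0 q.ij (e ▸ P.com_of_mem hps cps hr (left_mem_Ln _ _))
  -- a further point of the line of `d` and `r` misses what `r` meets
  have hnb : ∀ w ∈ Ln d r, w ≠ d → w ≠ r → ∀ x y b, x ≠ y → Com w (F.p x y b) → ¬ Com r (F.p x y b) :=
    fun w hw _ hwr x y b hxy hwq hrq => hno x y b hxy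
      (P.all_of_two hdne hdr hw (right_mem_Ln _ _) hwr hwq.symm hrq.symm (left_mem_Ln _ _)).symm
  have hrone : ∀ x ∈ S, ∀ y ∈ S, x ≠ y → ∃ m, F.One r x y m ∧ u y = W.wt m * u x := fun x hx y hy hxy => by
    obtain ⟨m, hm⟩ := exists_ratio (W := W) (hu x hx) (hu y hy)
    exact ⟨m, hur.2.2.one_of hxy (hu x hx) hm, hm⟩
  have hone : ∀ w ∈ Ln d r, w ≠ d → w ≠ r → ∀ x ∈ S, ∀ y ∈ S, x ≠ y → ¬ F.All w x y :=
    fun w hw hwd hwr x hx y hy hxy hall => by
      obtain ⟨m, hm, -⟩ := hrone x hx y hy hxy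
      exact hnb w hw hwd hwr x y m hxy (hall m) hm.com
  have havoid : ∀ w ∈ Ln d r, w ≠ d → w ≠ r → ∃ x ∈ S, ∀ y ∈ S, y ≠ x → ∀ b, ¬ Com w (F.p x y b) := by
    intro w hw hwd hwr
    by_cases hsome : ∃ x y b, x ≠ y ∧ Com w (F.p x y b)
    · obtain ⟨x₀, y₀, b₀, h₀, hc₀⟩ := hsome
      obtain ⟨v, hv⟩ := exists_vec_of_com (W := W) hn hmax w h₀ hc₀
      by_cases hz : ∃ x ∈ S, v x = 0
      · obtain ⟨x, hx, hx0⟩ := hz
        refine ⟨x, hx, fun y hy hyx b hc' => hone w hw hwd hwr x hx y hy hyx.symm ?_⟩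
        have h1 := (hv.2.2 x y b hyx.symm).mp hc'
        rw [hx0] at h1
        exact (hv.2.2.all_iff hyx.symm).mpr ⟨hx0, (mul_eq_zero.mp h1.symm).resolve_left (W.ne _)⟩
      · exfalso
        push Not at hz
        obtain ⟨x, hx, y, hy, hxy, he⟩ := Finset.exists_ne_map_eq_of_card_lt_of_maps_to
          (s := S) (t := Finset.univ.erase (0 : K)) (f := fun x => v x / u x) (by
            rw [Finset.card_erase_of_mem (Finset.mem_univ _), Finset.card_univ, ← Nat.card_eq_fintype_card,
              W.card inferInstance]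
            simp only [S]
            rw [Finset.card_insert_of_notMem (by simp [q.ij, q.ik, q.il]),
              Finset.card_insert_of_notMem (by simp [q.jk, q.jl]), Finset.card_pair q.kl]
            norm_num)
          (fun x hx => Finset.mem_erase.mpr ⟨div_ne_zero (hz x hx) (hu x hx), Finset.mem_univ _⟩)
        obtain ⟨m, hm, hum⟩ := hrone x hx y hy hxy
        refine hnb w hw hwd hwr x y m hxy (hv.2.2.one_of hxy (hz x hx) ?_).com hm.com
        have e1 : v y * u x = v x * u y := ((div_eq_div_iff (hu x hx) (hu y hy)).mp he).symm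
        rw [hum] at e1
        exact mul_right_cancel₀ (hu x hx) (by linear_combination e1)
    · exact ⟨i, by simp [S], fun y _ hy b hb => hsome ⟨i, y, b, hy.symm, hb⟩⟩
  have hthree : (Ln d r \ {d, r}).ncard = 3 := by
    rw [Set.ncard_sdiff (by rintro w (rfl | rfl); exacts [left_mem_Ln _ _, right_mem_Ln _ _]), Set.ncard_pair hdne,
      five_of hn F hdne hdr]
  obtain ⟨s₁, s₂, s₃, -, -, -, hset⟩ := Set.ncard_eq_three.mp hthree
  have hmem : ∀ w, w = s₁ ∨ w = s₂ ∨ w = s₃ → w ∈ Ln d r ∧ w ≠ d ∧ w ≠ r := by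
    intro w hw
    obtain ⟨h1, h2⟩ : w ∈ Ln d r \ {d, r} := hset ▸ hw
    exact ⟨h1, fun e => h2 (Or.inl e), fun e => h2 (Or.inr e)⟩
  obtain ⟨h1, h1d, h1r⟩ := hmem s₁ (Or.inl rfl)
  obtain ⟨h2, h2d, h2r⟩ := hmem s₂ (Or.inr (Or.inl rfl))
  obtain ⟨h3, h3d, h3r⟩ := hmem s₃ (Or.inr (Or.inr rfl))
  obtain ⟨x₁, hx₁, ha₁⟩ := havoid s₁ h1 h1d h1r
  obtain ⟨x₂, hx₂, ha₂⟩ := havoid s₂ h2 h2d h2r
  obtain ⟨y, hy, hyx, hy2⟩ : ∃ y ∈ S, y ≠ x₁ ∧ (x₂ = x₁ ∨ x₂ = y) := by
    by_cases e : x₂ = x₁
    · by_cases e' : i = x₁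
      · exact ⟨j, by simp [S], e' ▸ q.ij.symm, Or.inl e⟩
      · exact ⟨i, by simp [S], e', Or.inl e⟩
    · exact ⟨x₂, hx₂, e, Or.inr rfl⟩
  obtain ⟨m, hm, -⟩ := hrone x₁ hx₁ y hy hyx.symm
  have hforced : ∀ b, b ≠ m → Com s₃ (F.p x₁ y b) := by
    intro b hb
    obtain ⟨w, hw, hcw⟩ := P.one hdne hdr (F.p x₁ y b)
    have hwd : w ≠ d := fun e => hno x₁ y b hyx.symm (e ▸ hcw.symm)
    have hwr : w ≠ r := fun e => hb ((hm b).mp (e ▸ hcw.symm))
    have hw' : w ∈ ({s₁, s₂, s₃} : Set D) := hset ▸ ⟨hw, fun h => h.elim hwd hwr⟩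
    rcases hw' with rfl | rfl | rfl
    · exact absurd hcw.symm (ha₁ y hy hyx b)
    · rcases hy2 with rfl | rfl
      · exact absurd hcw.symm (ha₂ y hy hyx b)
      · refine absurd hcw.symm ?_
        rw [← F.symm b hyx.symm]
        exact ha₂ x₁ hx₁ hyx.symm (-b)
    · exact hcw.symm
  exact hone s₃ h3 h3d h3r x₁ hx₁ y hy hyx.symm (Frame.all_of_two hyx.symm
    (show m + 1 ≠ m + 2 by simp; decide) (hforced _ (by simp)) (hforced _ (by simp; decide)))

theorem exists_vec (d : D) : ∃ v, Vec F W d v := by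
  obtain ⟨i, j, a, hij, h⟩ := exists_com (F := F) hn hmax W d
  exact exists_vec_of_com hn hmax d hij h

omit hn hmax in
theorem supp_sub_fv {v : Fin n → K} (hij : i ≠ j) (hi : v i = 1) (hj : v j = W.wt a) :
    supp (v - fv W i j a) = supp v \ {i, j} := by
  ext x
  rw [mem_supp, Finset.mem_sdiff, mem_supp, Finset.mem_insert, Finset.mem_singleton, not_or, Pi.sub_apply]
  by_cases hxi : x = i
  · subst hxi; simp [hi, fv_left hij]
  by_cases hxj : x = j
  · subst hxj; simp [hj, fv_right hij]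
  simp [fv_other hxi hxj, hxi, hxj]

omit hn hmax in
theorem card_supp_sub_fv {v : Fin n → K} (hij : i ≠ j) (hi : v i = 1) (hj : v j = W.wt a) :
    (supp (v - fv W i j a)).card + 2 = (supp v).card := by
  have hsub : ({i, j} : Finset (Fin n)) ⊆ supp v := by
    intro x hx
    simp only [Finset.mem_insert, Finset.mem_singleton] at hx
    rcases hx with rfl | rfl
    · exact mem_supp.mpr (hi ▸ one_ne_zero)
    · exact mem_supp.mpr (hj ▸ W.ne _)
  rw [supp_sub_fv hij hi hj, ← Finset.card_pair hij, Finset.card_sdiff_add_card_eq_card hsub]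

theorem decomp {d : D} {v : Fin n → K} (hv : Vec F W d v) (hij : i ≠ j) (hi : v i = 1) (hj : v j = W.wt a) :
    (d = F.p i j a ∧ v = fv W i j a) ∨
      ∃ s, d ∈ Ln (F.p i j a) s ∧ d ≠ F.p i j a ∧ d ≠ s ∧ Vec F W s (v - fv W i j a) := by
  by_cases hd : d = F.p i j a
  · refine Or.inl ⟨hd, ?_⟩
    obtain ⟨c, -, hc⟩ := (hd ▸ fv_vec hij : Vec F W d (fv W i j a)).unique hv
    have h1 := congrFun hc i
    rw [hi, Pi.smul_apply, fv_left hij, smul_eq_mul, mul_one] at h1
    rw [hc, ← h1, one_smul]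
  refine Or.inr ?_
  have hone := hv.2.2.one_of hij (hi ▸ one_ne_zero) (show v j = W.wt a * v i by rw [hi, hj, mul_one])
  obtain ⟨s, hs, hsp, -, hall, -⟩ := F.reduce hij hone hd
  obtain ⟨vs, hvs⟩ := exists_vec (W := W) hn hmax s
  obtain ⟨hvi, hvj⟩ := (hvs.2.2.all_iff hij).mp hall
  obtain ⟨-, -, -, hback⟩ := line_vec (a := a) hn hij hvs hvi hvj
  have hds : d ≠ s := fun e => hone.not_all (e ▸ hall)
  have hmem : d ∈ Ln (F.p i j a) s := by
    rw [P.Ln_eq (Ne.symm hd) hone.com.symm (left_mem_Ln _ _) hs (Ne.symm hsp)]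
    exact right_mem_Ln _ _
  obtain ⟨c, hc, hvd⟩ := hback d hmem hd hds
  obtain ⟨t, -, ht⟩ := hvd.unique hv
  have h1 := congrFun ht i
  simp only [hi, Pi.smul_apply, Pi.add_apply, fv_left hij, hvi, smul_eq_mul, mul_zero, add_zero, mul_one] at h1
  rw [← h1, one_smul] at ht
  refine ⟨s, hmem, hd, hds, ?_⟩
  rw [ht, add_sub_cancel_left]
  exact hvs.smul hc

omit hn hmax in
theorem normalise (v : Fin n → K) (hi : v i ≠ 0) (hj : v j ≠ 0) :
    ∃ a, ((v i)⁻¹ • v) i = 1 ∧ ((v i)⁻¹ • v) j = W.wt a ∧ v j = W.wt a * v i := by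
  obtain ⟨a, ha⟩ := exists_ratio (W := W) hi hj
  refine ⟨a, inv_mul_cancel₀ hi, ?_, ha⟩
  rw [Pi.smul_apply, smul_eq_mul, ha, mul_comm, mul_assoc, mul_inv_cancel₀ hi, mul_one]

/-- The vector determines the member. -/
theorem vec_inj : ∀ {d e : D} {v : Fin n → K}, Vec F W d v → Vec F W e v → d = e := by
  suffices h : ∀ N, ∀ d e : D, ∀ v, (supp v).card = N → Vec F W d v → Vec F W e v → d = e from
    fun {d e v} hd he => h _ d e v rfl hd he
  intro N
  induction N using Nat.strong_induction_on with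
  | _ N ih =>
    intro d e v hN hd he
    obtain ⟨i, j, hij, hi, hj⟩ := hd.exists_pair
    obtain ⟨a, h1, h2, -⟩ := normalise (W := W) v hi hj
    have hd' := hd.smul (inv_ne_zero hi)
    have he' := he.smul (inv_ne_zero hi)
    set w := (v i)⁻¹ • v with hw
    have hcard : (supp w).card = N := by rw [hw, supp_smul (inv_ne_zero hi), hN]
    rcases decomp hn hmax hd' hij h1 h2 with ⟨rfl, hfv⟩ | ⟨s, hds, hdp, hds', hs⟩
    · rcases decomp hn hmax he' hij h1 h2 with ⟨rfl, -⟩ | ⟨s, -, -, -, hs⟩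
      · rfl
      · exact absurd (by rw [hfv, sub_self]) hs.1
    rcases decomp hn hmax he' hij h1 h2 with ⟨-, hfv⟩ | ⟨s', hes, hep, hes', hs'⟩
    · exact absurd (by rw [hfv, sub_self]) hs.1
    have hlt : (supp (w - fv W i j a)).card < N := by
      have := card_supp_sub_fv hij h1 h2
      omega
    obtain rfl := ih _ hlt s s' _ rfl hs hs'
    obtain ⟨k, hk⟩ : ∃ k, (w - fv W i j a) k ≠ 0 := Function.ne_iff.mp hs.1
    have hk' : k ∈ supp w \ {i, j} := by rw [← supp_sub_fv hij h1 h2]; exact mem_supp.mpr hk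
    simp only [Finset.mem_sdiff, mem_supp, Finset.mem_insert, Finset.mem_singleton, not_or] at hk'
    obtain ⟨hk0, hki, hkj⟩ := hk'
    obtain ⟨b, hb⟩ := exists_ratio (W := W) (h1 ▸ one_ne_zero : w i ≠ 0) hk0
    have c1 := (hd'.2.2.one_of (Ne.symm hki) (h1 ▸ one_ne_zero) hb).com
    have c2 := (he'.2.2.one_of (Ne.symm hki) (h1 ▸ one_ne_zero) hb).com
    obtain ⟨hps, cps, -, -⟩ := line_vec (a := a) hn hij hs
      (by rw [Pi.sub_apply, h1, fv_left hij, sub_self]) (by rw [Pi.sub_apply, h2, fv_right hij, sub_self])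
    exact P.unique hps cps hds hes c1.symm c2.symm (left_mem_Ln _ _) (F.not_com_adj (Ne.symm hki) hij hkj b a)

/-- Every isotropic vector belongs to a member. -/
theorem vec_surj : ∀ {v : Fin n → K}, v ≠ 0 → hh v v = 0 → ∃ d, Vec F W d v := by
  suffices h : ∀ N, ∀ v : Fin n → K, (supp v).card = N → v ≠ 0 → hh v v = 0 → ∃ d, Vec F W d v from
    fun {v} hv0 hv => h _ v rfl hv0 hv
  intro N
  induction N using Nat.strong_induction_on with
  | _ N ih =>
    intro v hN hv0 hv
    obtain ⟨i, hi⟩ : ∃ i, v i ≠ 0 := Function.ne_iff.mp hv0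
    obtain ⟨j, hj, hji⟩ : ∃ j ∈ supp v, j ≠ i := Finset.exists_mem_ne (by
      have h0 : 0 < (supp v).card := Finset.card_pos.mpr ⟨i, mem_supp.mpr hi⟩
      obtain ⟨m, hm⟩ := (W.iso_iff v).mp hv
      omega) i
    obtain ⟨a, h1, h2, -⟩ := normalise (W := W) v hi (mem_supp.mp hj)
    set w := (v i)⁻¹ • v with hw
    suffices h : ∃ d, Vec F W d w by
      obtain ⟨d, hd⟩ := h
      have := hd.smul hi
      rw [hw, smul_smul, mul_inv_cancel₀ hi, one_smul] at this
      exact ⟨d, this⟩
    have hw0 : hh w w = 0 := by rw [hw, Wt.hh_smul_left, Wt.hh_smul_right, hv, mul_zero, mul_zero]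
    by_cases hS : w - fv W i j a = 0
    · exact ⟨F.p i j a, sub_eq_zero.mp hS ▸ fv_vec hji.symm⟩
    have hcard := card_supp_sub_fv hji.symm h1 h2
    have hSiso : hh (w - fv W i j a) (w - fv W i j a) = 0 := by
      rw [W.iso_iff] at hw0 ⊢
      rw [← hcard] at hw0
      exact (Nat.even_add.mp hw0).mpr (by decide)
    have hlt : (supp (w - fv W i j a)).card < N := by
      rw [hw, supp_smul (inv_ne_zero hi)] at hcard
      rw [hw]
      omega
    obtain ⟨s, hs⟩ := ih _ hlt _ rfl hS hSiso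
    obtain ⟨-, -, hfwd, -⟩ := line_vec (a := a) hn hji.symm hs
      (by rw [Pi.sub_apply, h1, fv_left hji.symm, sub_self]) (by rw [Pi.sub_apply, h2, fv_right hji.symm, sub_self])
    obtain ⟨r, -, -, -, hr⟩ := hfwd 1 one_ne_zero
    rw [one_smul, add_sub_cancel] at hr
    exact ⟨r, hr⟩

omit hn hmax in
theorem sum_all (W : Wt K) {S : Finset K} (hS : ∀ x, x ∈ S) : ∑ x ∈ S, x = 0 := by
  have h : W.wt 1 * ∑ x ∈ S, x = ∑ x ∈ S, x := by
    rw [Finset.mul_sum]
    exact Finset.sum_equiv (Equiv.mulLeft₀ (W.wt 1) (W.ne 1)) (fun x => iff_of_true (hS _) (hS _)) fun x _ => rfl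
  have h1 : W.wt 1 ≠ 1 := fun e => absurd (W.inj (e.trans W.zero.symm)) (by decide)
  by_contra hne
  exact h1 (mul_right_cancel₀ hne (h.trans (one_mul _).symm))

/-- Commuting is orthogonality. -/
theorem com_iff : ∀ {d e : D} {u v : Fin n → K}, Vec F W d u → Vec F W e v → (Com d e ↔ hh u v = 0) := by
  classical
  haveI := Fintype.ofFinite K
  suffices h : ∀ N, ∀ d e : D, ∀ u v, (supp v).card = N → Vec F W d u → Vec F W e v → (Com d e ↔ hh u v = 0) from
    fun {d e u v} hu hv => h _ d e u v rfl hu hv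
  intro N
  induction N using Nat.strong_induction_on with
  | _ N ih =>
    intro d e u v hN hu hv
    let t : (Fin n → K) → Fin n → K := fun v x => u x * v x ^ 2
    -- the values on a pair and on the rest
    have hsplit : ∀ e v, Vec F W e v → (supp v).card = N → ∀ i j, i ≠ j → v i ≠ 0 → v j ≠ 0 →
        (t v i + t v j = 0 ∨ t v i + t v j = hh u v) → (Com d e ↔ hh u v = 0) := by
      intro e v hv hN i j hij hi hj hres
      obtain ⟨a, h1, h2, ha⟩ := normalise (W := W) v hi hj
      have hv' := hv.smul (inv_ne_zero hi)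
      set c := (v i)⁻¹ with hc
      have hT : hh u v = 0 ↔ hh u (c • v) = 0 := by
        rw [Wt.hh_smul_right, mul_eq_zero, or_iff_right (pow_ne_zero 2 (inv_ne_zero hi))]
      have hA : hh u (fv W i j a) = c ^ 2 * (t v i + t v j) := by
        show _ = c ^ 2 * (u i * v i ^ 2 + u j * v j ^ 2)
        rw [hh_fv u hij, ha, mul_pow, W.sq]
        have : c ^ 2 * v i ^ 2 = 1 := by rw [← mul_pow, hc, inv_mul_cancel₀ hi, one_pow]
        linear_combination -(u i + W.wt (-a) * u j) * this
      rcases decomp hn hmax hv' hij h1 h2 with ⟨rfl, hfv⟩ | ⟨s, hes, hep, hes', hs⟩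
      · rw [hT, hfv]; exact hu.2.2.com_iff hij
      have hlt : (supp (c • v - fv W i j a)).card < N := by
        have := card_supp_sub_fv hij h1 h2
        rw [supp_smul (inv_ne_zero hi), hN] at this
        omega
      have hB := ih _ hlt d s u _ rfl hu hs
      obtain ⟨hps, cps, -, -⟩ := line_vec (a := a) hn hij hs
        (by rw [Pi.sub_apply, h1, fv_left hij, sub_self]) (by rw [Pi.sub_apply, h2, fv_right hij, sub_self])
      have hp := hu.2.2.com_iff (a := a) hij
      have hsum : hh u (c • v) = hh u (fv W i j a) + hh u (c • v - fv W i j a) := by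
        rw [← W.hh_add_right, add_sub_cancel]
      rw [hT, hsum]
      by_cases hdp : Com d (F.p i j a)
      · rw [hp.mp hdp, zero_add, ← hB]
        exact ⟨fun h => P.all_of_two hps cps (left_mem_Ln _ _) hes (Ne.symm hep) hdp h (right_mem_Ln _ _),
          fun h => hes d hdp h⟩
      have hds : Com d s := by
        refine hB.mpr ?_
        rcases hres with h | h
        · exact absurd (hp.mpr (by rw [hA, h, mul_zero])) hdp
        · rw [Wt.hh_smul_right, ← h, ← hA] at hsum
          simpa using hsum.symm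
      rw [hB.mp hds, add_zero, ← hp]
      exact ⟨fun h => P.all_of_two hps cps (right_mem_Ln _ _) hes (Ne.symm hes') hds h (left_mem_Ln _ _),
        fun h => hes d h hds⟩
    have hT : ∀ v, hh u v = ∑ x ∈ supp v, t v x := fun v =>
      (Finset.sum_subset (Finset.subset_univ _) fun x _ hx => by
        rw [mem_supp, not_not] at hx
        simp [t, hx]).symm
    by_cases hex : ∃ i ∈ supp v, ∃ j ∈ supp v, i ≠ j ∧ (t v i + t v j = 0 ∨ t v i + t v j = hh u v)
    · obtain ⟨i, hi, j, hj, hij, h⟩ := hex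
      exact hsplit e v hv hN i j hij (mem_supp.mp hi) (mem_supp.mp hj) h
    push Not at hex
    have hinj : Set.InjOn (t v) (supp v) := fun x hx y hy e => by_contra fun hne =>
      (hex x hx y hy hne).1 (by rw [e]; exact W.add_self _)
    have h4 : (supp v).card ≤ 4 := by
      have := Finset.card_le_card_of_injOn (t v) (fun x _ => Finset.mem_univ (t v x)) hinj
      rwa [Finset.card_univ, ← Nat.card_eq_fintype_card, W.card inferInstance] at this
    obtain ⟨i, j, hij, hi, hj⟩ := hv.exists_pair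
    have hne2 : (supp v).card ≠ 2 := fun h2 => (hex i (mem_supp.mpr hi) j (mem_supp.mpr hj) hij).2 (by
      rw [hT, ← Finset.eq_of_subset_of_card_le (s := {i, j}) (t := supp v) (by simp [Finset.insert_subset_iff, mem_supp, hi, hj])
        (by rw [h2, Finset.card_pair hij]), Finset.sum_pair hij])
    have hcard : (supp v).card = 4 := by
      have h0 : 0 < (supp v).card := Finset.card_pos.mpr ⟨i, mem_supp.mpr hi⟩
      obtain ⟨m, hm⟩ := (W.iso_iff v).mp hv.2.1
      omega
    have hzero : ∀ w : Fin n → K, (supp w).card = 4 → Set.InjOn (t w) (supp w) → hh u w = 0 := by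
      intro w hw hwi
      have himg : (supp w).image (t w) = Finset.univ := Finset.eq_univ_of_card _ (by
        rw [Finset.card_image_of_injOn hwi, hw, ← Nat.card_eq_fintype_card, W.card inferInstance])
      rw [hT, ← Finset.sum_image (f := fun x : K => x) hwi, himg]
      exact sum_all W Finset.mem_univ
    have hT0 : hh u v = 0 := hzero v hcard hinj
    refine iff_of_true ?_ hT0
    obtain ⟨a, h1, h2, ha⟩ := normalise (W := W) v hi hj
    have hv' := hv.smul (inv_ne_zero hi)
    set c := (v i)⁻¹ with hc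
    rcases decomp hn hmax hv' hij h1 h2 with ⟨-, hfv⟩ | ⟨s, hes, hep, hes', hs⟩
    · have := card_supp_sub_fv hij h1 h2
      rw [hfv, sub_self, show supp (0 : Fin n → K) = ∅ from Finset.eq_empty_of_forall_notMem fun x hx =>
        mem_supp.mp hx rfl, Finset.card_empty, ← hfv, supp_smul (inv_ne_zero hi), hcard] at this
      omega
    obtain ⟨hps, cps, -, hback⟩ := line_vec (a := a) hn hij hs
      (by rw [Pi.sub_apply, h1, fv_left hij, sub_self]) (by rw [Pi.sub_apply, h2, fv_right hij, sub_self])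
    set S := c • v - fv W i j a with hS
    have hA : hh u (fv W i j a) ≠ 0 := by
      rw [hh_fv u hij]
      intro h0
      refine (hex i (mem_supp.mpr hi) j (mem_supp.mpr hj) hij).1 ?_
      show u i * v i ^ 2 + u j * v j ^ 2 = 0
      rw [ha, mul_pow, W.sq]
      linear_combination (v i ^ 2) * h0
    have hB : hh u S = hh u (fv W i j a) := by
      have h : hh u (fv W i j a) + hh u S = 0 := by
        rw [← W.hh_add_right, hS, add_sub_cancel, Wt.hh_smul_right, hT0, mul_zero]
      exact (W.add_eq_zero.mp h).symm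
    obtain ⟨w, hw, hdw⟩ := P.one hps cps d
    have hwp : w ≠ F.p i j a := fun h => hA ((hu.2.2.com_iff hij).mp (h ▸ hdw))
    have hlt : (supp S).card < N := by
      have := card_supp_sub_fv hij h1 h2
      rw [supp_smul (inv_ne_zero hi), hN, ← hS] at this
      omega
    have hws : w ≠ s := fun h => hA (by rw [← hB]; exact (ih _ hlt d s u _ rfl hu hs).mp (h ▸ hdw))
    obtain ⟨k, hk, hvw⟩ := hback w hw hwp hws
    by_cases hk1 : k = 1
    · subst hk1
      rw [one_smul, hS, add_sub_cancel] at hvw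
      exact vec_inj hn hmax hvw hv' ▸ hdw
    exfalso
    set v' := fv W i j a + k • S with hv''
    have hsupp : supp v' = supp v := by
      ext x
      rw [mem_supp, mem_supp, hv'', Pi.add_apply, Pi.smul_apply, smul_eq_mul, hS, Pi.sub_apply, Pi.smul_apply,
        smul_eq_mul]
      by_cases hxi : x = i
      · subst hxi
        simp [fv_left hij, hc, inv_mul_cancel₀ hi, hi]
      by_cases hxj : x = j
      · subst hxj
        have : c * v x = W.wt a := h2
        simp [fv_right hij, this, W.ne, hj]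
      simp [fv_other hxi hxj, hk, hc, hi]
    have hne : hh u v' ≠ 0 := by
      rw [hv'', W.hh_add_right, Wt.hh_smul_right, hB, ← one_add_mul]
      refine mul_ne_zero (fun h => hk1 ?_) hA
      rw [← W.pow_four k, ← W.add_eq_zero.mp h, one_pow]
    obtain ⟨x, hx, y, hy, hxy, hey⟩ : ∃ x ∈ supp v', ∃ y ∈ supp v', x ≠ y ∧ t v' x = t v' y := by
      by_contra hno
      push Not at hno
      exact hne (hzero v' (by rw [hsupp, hcard]) fun x hx y hy e => by_contra fun h => hno x hx y hy h e)
    have := (hsplit w v' hvw (by rw [hsupp, hN]) x y hxy (mem_supp.mp hx) (mem_supp.mp hy)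
      (Or.inl (by rw [hey]; exact W.add_self _))).mp hdw
    exact hne this

/-- Conjugation is the transvection. -/
theorem vec_t {x y : D} {u v : Fin n → K} (hu : Vec F W x u) (hv : Vec F W y v) :
    Vec F W (P.t x y) (tau u v) := by
  have hne : ∀ {u v : Fin n → K}, hh u u = 0 → v ≠ 0 → tau u v ≠ 0 := fun {u v} hu0 hv0 h => hv0 (by
    have h' : tau u (tau u v) = 0 := by rw [h]; simp [tau, Cfsg.hermForm]
    rw [tau, tau, Wt.hh_add_left, Wt.hh_smul_left, hu0, mul_zero, add_zero, add_assoc] at h'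
    rw [← h', ← add_smul, W.add_self, zero_smul, add_zero])
  have hvec : ∀ {x y : D} {u v}, Vec F W x u → Vec F W y v → Pat F W (P.t x y) (tau u v) →
      Vec F W (P.t x y) (tau u v) := fun hu hv h => ⟨hne hu.2.1 hv.1, W.hh_tau_self hu.2.1 hv.2.1, h⟩
  -- frame members
  have hfr : ∀ i j k l a b, i ≠ j → k ≠ l → ∀ u v, Vec F W (F.p i j a) u → Vec F W (F.p k l b) v →
      Pat F W (P.t (F.p i j a) (F.p k l b)) (tau u v) := by
    have scale : ∀ {q r z : D} {fq fr w : Fin n → K} {c : K}, Vec F W q fq → Vec F W r fr → c ≠ 0 →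
        tau fq fr = c • w → Pat F W z w → ∀ u v, Vec F W q u → Vec F W r v → Pat F W z (tau u v) := by
      intro q r z fq fr w c hq hr hc he hz u v hu hv
      obtain ⟨c1, hc1, rfl⟩ := hq.unique hu
      obtain ⟨c2, hc2, rfl⟩ := hr.unique hv
      rw [W.tau_smul hc1, tau_smul_right, he, smul_smul]
      exact hz.smul (mul_ne_zero hc2 hc)
    have hsame : ∀ i j a b, i ≠ j → ∀ u v, Vec F W (F.p i j a) u → Vec F W (F.p i j b) v →
        Pat F W (P.t (F.p i j a) (F.p i j b)) (tau u v) := by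
      intro i j a b hij
      by_cases hab : a = b
      · subst hab
        refine scale (fv_vec hij) (fv_vec hij) one_ne_zero ?_ (show Pat F W (P.t (F.p i j a) (F.p i j a)) (fv W i j a) by rw [P.t_self]; exact fv_pat hij)
        rw [tau, (fv_vec (F := F) (W := W) hij).2.1, zero_smul, add_zero, one_smul]
      refine scale (fv_vec hij) (fv_vec hij) (W.ne (b - a)) ?_
        (show Pat F W (P.t (F.p i j a) (F.p i j b)) (fv W i j (-a - b)) by rw [(F.same hij hab).2]; exact fv_pat hij)
      funext x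
      rw [tau_apply, hh_fv _ hij, Pi.smul_apply, smul_eq_mul, fv_left hij, fv_right hij]
      have e1 : W.wt (b - a) = W.wt (-a) * W.wt b := by rw [← W.add]; congr 1; abel
      have e2 : W.wt (b - a) * W.wt (-a - b) = W.wt a := by
        rw [← W.add]
        exact congrArg W.wt ((show ∀ a b : ZMod 3, b - a + (-a - b) = a by decide) a b)
      by_cases hxi : x = i
      · subst hxi; rw [fv_left hij, fv_left hij, fv_left hij, e1]; linear_combination W.two
      by_cases hxj : x = j
      · subst hxj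
        rw [fv_right hij, fv_right hij, fv_right hij, e2]
        linear_combination (W.wt b) * W.two + W.wt b * W.inv a
      rw [fv_other hxi hxj, fv_other hxi hxj, fv_other hxi hxj, mul_zero, mul_zero, add_zero]
    have hadj : ∀ i j k a b, i ≠ j → j ≠ k → i ≠ k → ∀ u v, Vec F W (F.p i j a) u → Vec F W (F.p j k b) v →
        Pat F W (P.t (F.p i j a) (F.p j k b)) (tau u v) := by
      intro i j k a b hij hjk hik
      refine scale (fv_vec hij) (fv_vec hjk) (W.ne (-a)) ?_
        (show Pat F W (P.t (F.p i j a) (F.p j k b)) (fv W i k (a + b)) by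
          rw [(F.join a b hij hjk hik).2]; exact fv_pat hik)
      funext x
      rw [tau_apply, hh_fv _ hij, Pi.smul_apply, smul_eq_mul, fv_other hij hik, fv_left hjk, zero_add, mul_one]
      by_cases hxi : x = i
      · subst hxi; rw [fv_other hij hik, fv_left hij, fv_left hik, zero_add]
      by_cases hxj : x = j
      · subst hxj; rw [fv_left hjk, fv_right hij, fv_other hij.symm hjk, W.inv, mul_zero]; exact W.add_self 1
      by_cases hxk : x = k
      · subst hxk
        rw [fv_right hjk, fv_other hxi hxj, fv_right hik, mul_zero, add_zero, W.add, ← mul_assoc, W.inv, one_mul]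
      simp [fv_other hxj hxk, fv_other hxi hxj, fv_other hxi hxk]
    intro i j k l a b hij hkl u v hu hv
    by_cases eik : i = k
    · subst eik
      by_cases ejl : j = l
      · subst ejl; exact hsame i j a b hij u v hu hv
      rw [← F.symm a hij] at hu ⊢
      exact hadj j i l _ b hij.symm hkl ejl u v hu hv
    by_cases eil : i = l
    · subst eil
      rw [← F.symm b hkl] at hv ⊢
      by_cases ejk : j = k
      · subst ejk; exact hsame i j a _ hij u v hu hv
      rw [← F.symm a hij] at hu ⊢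
      exact hadj j i k _ _ hij.symm hkl.symm ejk u v hu hv
    by_cases ejk : j = k
    · subst ejk; exact hadj i j l a b hij hkl eil u v hu hv
    by_cases ejl : j = l
    · subst ejl
      rw [← F.symm b hkl] at hv ⊢
      exact hadj i j k a _ hij hkl.symm eik u v hu hv
    have hc := F.disj a b hij hkl eik eil ejk ejl
    rw [P.t_of_com hc, tau, (W.hh_comm _ _).mp ((com_iff hn hmax hu hv).mp hc), zero_smul, add_zero]
    exact hv.2.2
  have hchain : ∀ {x : D} {u : Fin n → K}, Vec F W x u →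
      (∀ k l b, k ≠ l → Vec F W (P.t x (F.p k l b)) (tau u (fv W k l b))) →
      ∀ {y v}, Vec F W y v → Pat F W (P.t x y) (tau u v) := by
    intro x u _ hr y v hv k l b hkl
    have h1 : Com (P.t x y) (F.p k l b) ↔ Com y (P.t x (F.p k l b)) := by
      conv_lhs => rw [← P.t_t x (F.p k l b)]
      exact P.com_cj _ _ _
    rw [h1, com_iff hn hmax hv (hr k l b hkl), ← W.hh_tau, hh_fv_eq_zero _ hkl]
  refine hvec hu hv (hchain hu (fun k l b hkl => ?_) hv)
  have hr : Vec F W (F.p k l b) (fv W k l b) := fv_vec hkl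
  by_cases hc : Com x (F.p k l b)
  · rw [P.t_of_com hc, tau, (W.hh_comm _ _).mp ((com_iff hn hmax hu hr).mp hc), zero_smul, add_zero]
    exact hr
  have hq : Pat F W (P.t (F.p k l b) x) (tau (fv W k l b) u) := hchain hr (fun i j a hij =>
    hvec hr (fv_vec hij) (hfr k l i j b a hkl hij _ _ hr (fv_vec hij))) hu
  have hh0 : hh u (fv W k l b) ≠ 0 := fun h => hc ((com_iff hn hmax hu hr).mpr h)
  have he : tau (fv W k l b) u = hh u (fv W k l b) • tau u (fv W k l b) := by
    funext z
    rw [Pi.smul_apply, smul_eq_mul, tau_apply, tau_apply, W.hh_swap u (fv W k l b)]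
    linear_combination -(u z) * W.cube hh0
  rw [P.t_symm hc]
  have := (hvec hr hu hq).smul (inv_ne_zero hh0)
  rwa [he, smul_smul, inv_mul_cancel₀ hh0, one_smul] at this

end coords

end CfsgLib.ThreeT.Tv
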