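import Cfsg.Agent.Spor3T.Tv.Frame

/-!
Commuting patterns against a frame, and the five points on every line.
-/

set_option autoImplicit false
set_option linter.unusedSectionVars false

namespace CfsgLib.ThreeT.Tv

universe u v

variable {G : Type u} [Group G] {D : Set G} {P : Pol D} {ι : Type v}

/-- Four distinct indices. -/
structure Four (i j k l : ι) : Prop where
  ij : i ≠ j
  ik : i ≠ k
  il : i ≠ l
  jk : j ≠ k
  jl : j ≠ l
  kl : k ≠ l

theorem Four.swap {i j k l : ι} (h : Four i j k l) : Four j i k l :=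
  ⟨h.ij.symm, h.jk, h.jl, h.ik, h.il, h.kl⟩

theorem Four.swap' {i j k l : ι} (h : Four i j k l) : Four i j l k :=
  ⟨h.ij, h.il, h.ik, h.jl, h.jk, h.kl.symm⟩

variable (F : Frame P ι)

/-- A member commutes with all three members at a pair. -/
def Frame.All (d : D) (i j : ι) : Prop := ∀ a, Com d (F.p i j a)

/-- A member commutes with exactly one member at a pair. -/
def Frame.One (d : D) (i j : ι) (a : ZMod 3) : Prop := ∀ b, Com d (F.p i j b) ↔ b = a

/-- A member commutes with no member at a pair. -/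
def Frame.None (d : D) (i j : ι) : Prop := ∀ a, ¬ Com d (F.p i j a)

variable {F} {d : D} {i j k l : ι}

theorem Frame.com_left (h : i ≠ j) (h' : j ≠ k) (h'' : i ≠ k) {a b : ZMod 3} (hd : Com d (F.p i j a)) :
    Com d (F.p i k (a + b)) ↔ Com d (F.p j k b) := by
  rw [← (F.join a b h h' h'').2]; exact P.com_t_iff hd

theorem Frame.com_right (h : i ≠ j) (h' : j ≠ k) (h'' : i ≠ k) {a b : ZMod 3} (hd : Com d (F.p j k b)) :
    Com d (F.p i k (a + b)) ↔ Com d (F.p i j a) := by
  rw [← (F.join a b h h' h'').2]; exact P.com_t_iff' (F.join a b h h' h'').1 hd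

theorem Frame.com_swap (h : i ≠ j) {a : ZMod 3} : Com d (F.p j i a) ↔ Com d (F.p i j (-a)) := by
  rw [F.symm' a h]

theorem Frame.all_of_two (h : i ≠ j) {a b : ZMod 3} (hab : a ≠ b) (ha : Com d (F.p i j a))
    (hb : Com d (F.p i j b)) : F.All d i j := by
  intro c
  rcases (show ∀ a b c : ZMod 3, a ≠ b → c = a ∨ c = b ∨ c = -a - b by decide) a b c hab with rfl | rfl | rfl
  · exact ha
  · exact hb
  · rw [← (F.same h hab).2]; exact (P.com_t_iff ha).mpr hb

theorem Frame.cases3 (F : Frame P ι) (d : D) (h : i ≠ j) : F.All d i j ∨ (∃ a, F.One d i j a) ∨ F.None d i j := by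
  by_cases h1 : ∃ a, Com d (F.p i j a)
  · obtain ⟨a, ha⟩ := h1
    by_cases h2 : ∃ b, b ≠ a ∧ Com d (F.p i j b)
    · obtain ⟨b, hba, hb⟩ := h2
      exact Or.inl (Frame.all_of_two h hba hb ha)
    · push Not at h2
      exact Or.inr (Or.inl ⟨a, fun b => ⟨fun hb => by_contra fun e => h2 b e hb, fun e => e ▸ ha⟩⟩)
  · push Not at h1
    exact Or.inr (Or.inr h1)

theorem Frame.One.com {a : ZMod 3} (h : F.One d i j a) : Com d (F.p i j a) := (h a).mpr rfl

theorem Frame.One.not_all {a : ZMod 3} (h : F.One d i j a) : ¬ F.All d i j :=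
  fun h' => absurd ((h (a + 1)).mp (h' (a + 1))) (by simp)

theorem Frame.One.swap (hij : i ≠ j) {a : ZMod 3} (h : F.One d i j a) : F.One d j i (-a) := fun b => by
  rw [Frame.com_swap hij, h]
  exact ⟨fun e => by rw [← e, neg_neg], fun e => by rw [e, neg_neg]⟩

theorem Frame.All.swap (hij : i ≠ j) (h : F.All d i j) : F.All d j i := fun a => by
  rw [Frame.com_swap hij]; exact h _

theorem Frame.None.swap (hij : i ≠ j) (h : F.None d i j) : F.None d j i := fun a => by
  rw [Frame.com_swap hij]; exact h _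

theorem Frame.All.spread (h : i ≠ j) (h' : j ≠ k) (h'' : i ≠ k) (hall : F.All d i j) {b : ZMod 3}
    (hb : Com d (F.p j k b)) : F.All d i k ∧ F.All d j k := by
  have h1 : F.All d i k := fun c => by
    have := (Frame.com_left (b := b) h h' h'' (hall (c - b))).mpr hb
    rwa [sub_add_cancel] at this
  exact ⟨h1, fun y => (Frame.com_left (b := y) h h' h'' (hall 0)).mp (h1 _)⟩

theorem Frame.All.trans (h : i ≠ j) (h' : j ≠ k) (h'' : i ≠ k) (h1 : F.All d i j) (h2 : F.All d j k) :
    F.All d i k := (h1.spread h h' h'' (h2 0)).1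

/-- A member commuting with one member at a pair commutes with all at no adjacent pair. -/
theorem Frame.One.not_all_adj (h : i ≠ j) (h' : j ≠ k) (h'' : i ≠ k) {a : ZMod 3} (h1 : F.One d i j a) :
    ¬ F.All d j k := fun h2 =>
  h1.not_all (((h2.swap h').spread h'.symm h.symm h''.symm (Frame.com_swap h |>.mpr
    (by rw [neg_neg]; exact h1.com) : Com d (F.p j i (-a)))).2.swap h.symm)

theorem Frame.One.comp (h : i ≠ j) (h' : j ≠ k) (h'' : i ≠ k) {a b : ZMod 3} (h1 : F.One d i j a)
    (hb : Com d (F.p j k b)) : F.One d i k (a + b) := by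
  intro c
  have := Frame.com_right (a := c - b) h h' h'' hb
  rw [sub_add_cancel] at this
  rw [this, h1, sub_eq_iff_eq_add]

theorem Frame.None.comp (h : i ≠ j) (h' : j ≠ k) (h'' : i ≠ k) {b : ZMod 3} (h1 : F.None d i j)
    (hb : Com d (F.p j k b)) : F.None d i k := fun c hc => h1 (c - b) <| by
  have := Frame.com_right (a := c - b) h h' h'' hb
  rw [sub_add_cancel] at this
  exact this.mp hc

theorem Frame.ne_disj (F : Frame P ι) (q : Four i j k l) (a b : ZMod 3) : F.p i j a ≠ F.p k l b := fun e =>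
  (F.same q.ij (show a + 1 ≠ a by simp)).1 (e ▸ F.disj _ b q.ij q.kl q.ik q.il q.jk q.jl)

theorem Frame.not_com_adj (F : Frame P ι) (h : i ≠ j) (h' : i ≠ k) (h'' : j ≠ k) (a b : ZMod 3) :
    ¬ Com (F.p i j a) (F.p i k b) := by
  rw [← F.symm a h]; exact (F.join (-a) b h.symm h' h'').1

variable (F)

/-- The point of the line of `p i j 0` and `p k l 0` commuting with `p i k c`. -/
structure Frame.IsPick (i j k l : ι) (e : ZMod 3 → D) : Prop where
  mem : ∀ c, e c ∈ Ln (F.p i j 0) (F.p k l 0)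
  ne_left : ∀ c, e c ≠ F.p i j 0
  ne_right : ∀ c, e c ≠ F.p k l 0
  one_ij : ∀ c, F.One (e c) i j 0
  one_kl : ∀ c, F.One (e c) k l 0
  one_ik : ∀ c, F.One (e c) i k c
  one_il : ∀ c, F.One (e c) i l c
  one_jk : ∀ c, F.One (e c) j k c
  one_jl : ∀ c, F.One (e c) j l c

theorem Frame.exists_pick (q : Four i j k l) : ∃ e, F.IsPick i j k l e ∧ Function.Injective e := by
  set p := F.p i j 0 with hp
  set s := F.p k l 0 with hs
  have hps : p ≠ s := F.ne_disj q 0 0
  have cps : Com p s := F.disj 0 0 q.ij q.kl q.ik q.il q.jk q.jl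
  have hex : ∀ c, ∃ w ∈ Ln p s, Com (F.p i k c) w := fun c => P.one hps cps _
  choose e he hc using hex
  have hn1 : ∀ c, ¬ Com (F.p i k c) p := fun c h => F.not_com_adj q.ij q.ik q.jk 0 c h.symm
  have hnel : ∀ c, e c ≠ p := fun c h => hn1 c (h ▸ hc c)
  have hner : ∀ c, e c ≠ s := fun c h => by
    have := hc c
    rw [h, hs, ← F.symm c q.ik] at this
    exact F.not_com_adj q.ik.symm q.kl q.il (-c) 0 this
  have hep : ∀ c, Com (e c) p := fun c => P.com_of_mem hps cps (he c) (left_mem_Ln _ _)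
  have hes : ∀ c, Com (e c) s := fun c => P.com_of_mem hps cps (he c) (right_mem_Ln _ _)
  have h12 : ∀ c, F.One (e c) i j 0 := by
    refine fun c b => ⟨fun h => by_contra fun hb => hner c ?_, fun h => h ▸ hep c⟩
    exact P.unique hps cps (he c) (right_mem_Ln _ _) h.symm (F.disj b 0 q.ij q.kl q.ik q.il q.jk q.jl)
      (left_mem_Ln _ _) (F.same q.ij hb).1
  have h34 : ∀ c, F.One (e c) k l 0 := by
    refine fun c b => ⟨fun h => by_contra fun hb => hnel c ?_, fun h => h ▸ hes c⟩
    exact P.unique hps cps (he c) (left_mem_Ln _ _) h.symm (F.disj b 0 q.kl q.ij q.ik.symm q.jk.symm q.il.symm q.jl.symm)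
      (right_mem_Ln _ _) (F.same q.kl hb).1
  have h23 : ∀ c, Com (e c) (F.p j k c) := fun c => by
    have := (Frame.com_left (b := c) q.ij q.jk q.ik ((h12 c).com)).mp (by rw [zero_add]; exact (hc c).symm)
    exact this
  have h13 : ∀ c, F.One (e c) i k c := fun c => by
    have := Frame.One.comp q.ij q.jk q.ik (h12 c) (h23 c)
    rwa [zero_add] at this
  have h14 : ∀ c, F.One (e c) i l c := fun c => by
    have := Frame.One.comp q.ik q.kl q.il (h13 c) (h34 c).com
    rwa [add_zero] at this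
  have h21 : ∀ c, F.One (e c) j i 0 := fun c => by
    have := (h12 c).swap q.ij
    rwa [neg_zero] at this
  refine ⟨e, ⟨he, hnel, hner, h12, h34, h13, h14, fun c => ?_, fun c => ?_⟩, fun a b h => ?_⟩
  · have := Frame.One.comp q.ij.symm q.ik q.jk (h21 c) (h13 c).com
    rwa [zero_add] at this
  · have := Frame.One.comp q.ij.symm q.il q.jl (h21 c) (h14 c).com
    rwa [zero_add] at this
  · exact (h13 b a).mp (h ▸ (h13 a).com)

/-- The product of the five members fixes `p i k c`. -/
theorem Frame.prod_fix (q : Four i j k l) {e : ZMod 3 → D} (he : ∀ c, e c ∈ Ln (F.p i j 0) (F.p k l 0))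
    (hec : ∀ c, Com (e c) (F.p i k c)) (c : ZMod 3) :
    P.cj ((e 0 : G) * e 1 * e 2 * ((F.p i j 0 : G) * F.p k l 0)) (F.p i k c) = F.p i k c := by
  set p := F.p i j 0 with hp
  set s := F.p k l 0 with hs
  have hps : p ≠ s := F.ne_disj q 0 0
  have cps : Com p s := F.disj 0 0 q.ij q.kl q.ik q.il q.jk q.jl
  have hec' : ∀ c, Com (e c) (F.p j l c) := by
    intro c
    have hj : Com (e c) (F.p j i 0) := by
      rw [F.symm' 0 q.ij, neg_zero]; exact P.com_of_mem hps cps (he c) (left_mem_Ln _ _)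
    have h1 := (Frame.com_left (b := c) q.ij.symm q.ik q.jk hj).mpr (hec c)
    rw [zero_add] at h1
    have := (Frame.com_left (b := 0) q.jk q.kl q.jl h1).mpr (P.com_of_mem hps cps (he c) (right_mem_Ln _ _))
    rwa [add_zero] at this
  have h1 : P.cj ((p : G) * s) (F.p i k c) = F.p j l c := by
    rw [P.cj_mul]
    show P.t p (P.t s (F.p i k c)) = _
    obtain ⟨n1, e1⟩ := F.join c 0 q.ik q.kl q.il
    rw [add_zero] at e1
    rw [hs, ← P.t_symm n1, e1, hp, ← F.symm 0 q.ij, neg_zero]
    have := (F.join 0 c q.ij.symm q.il q.jl).2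
    rwa [zero_add] at this
  -- the two other points move the two diagonal members to the same point
  have h2 : ∀ a b : ZMod 3, a ≠ b → a ≠ c → b ≠ c → P.t (e a) (F.p i k c) = P.t (e b) (F.p j l c) := by
    intro a b hab hac hbc
    have hn1 : ¬ Com (F.p i k c) (e a) := fun h => by
      have h2 : Com (F.p i k c) (e c) := (hec c).symm
      by_cases ee : e a = e c
      · have hall := Frame.all_of_two (d := e c) q.ik hac (ee ▸ hec a) (hec c)
        have h3 : ¬ Com (e c) (F.p i j 1) := fun h => absurd (P.unique hps cps (he c) (right_mem_Ln _ _) h.symm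
          (F.disj 1 0 q.ij q.kl q.ik q.il q.jk q.jl) (left_mem_Ln _ _) (F.same q.ij (by decide)).1) (fun e' => by
            have h4 := hall c
            rw [e', hs] at h4
            rw [← F.symm c q.ik] at h4
            exact F.not_com_adj q.ik.symm q.kl q.il (-c) 0 h4.symm)
        have h5 : Com (e c) (F.p j k (c - 1)) := by
          have hj : Com (e c) (F.p j i 0) := by
            rw [F.symm' 0 q.ij, neg_zero]; exact P.com_of_mem hps cps (he c) (left_mem_Ln _ _)
          have := (Frame.com_left (b := c - 1) q.ij.symm q.ik q.jk hj).mpr (hall _)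
          rwa [zero_add] at this
        have := (Frame.com_right (a := 1) q.ij q.jk q.ik h5).mp (by rw [add_sub_cancel]; exact hall c)
        exact h3 this
      · exact F.not_com_adj q.ij q.ik q.jk 0 c (P.all_of_two hps cps (he a) (he c) ee h h2 (left_mem_Ln _ _)).symm
    have hn2 : ¬ Com (F.p j l c) (e b) := fun h => by
      have h2 : Com (F.p j l c) (e c) := (hec' c).symm
      have hj : F.p j i 0 = p := by rw [hp, F.symm' 0 q.ij, neg_zero]
      by_cases ee : e b = e c
      · have hall := Frame.all_of_two (d := e c) q.ik hbc (ee ▸ hec b) (hec c)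
        have h3 : ¬ Com (e c) (F.p i j 1) := fun h => absurd (P.unique hps cps (he c) (right_mem_Ln _ _) h.symm
          (F.disj 1 0 q.ij q.kl q.ik q.il q.jk q.jl) (left_mem_Ln _ _) (F.same q.ij (by decide)).1) (fun e' => by
            have h4 := hall c
            rw [e', hs, ← F.symm c q.ik] at h4
            exact F.not_com_adj q.ik.symm q.kl q.il (-c) 0 h4.symm)
        have h5 : Com (e c) (F.p j k (c - 1)) := by
          have hj : Com (e c) (F.p j i 0) := by
            rw [hj]; exact P.com_of_mem hps cps (he c) (left_mem_Ln _ _)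
          have := (Frame.com_left (b := c - 1) q.ij.symm q.ik q.jk hj).mpr (hall _)
          rwa [zero_add] at this
        exact h3 ((Frame.com_right (a := 1) q.ij q.jk q.ik h5).mp (by rw [add_sub_cancel]; exact hall c))
      · refine F.not_com_adj q.ij.symm q.jl q.il 0 c ?_
        rw [hj]
        exact (P.all_of_two hps cps (he b) (he c) ee h h2 (left_mem_Ln _ _)).symm
    have hK : F.p j k c ≠ F.p i l c := F.ne_disj ⟨q.jk, q.ij.symm, q.jl, q.ik.symm, q.kl, q.il⟩ c c
    have cK : Com (F.p j k c) (F.p i l c) := F.disj c c q.jk q.il q.ij.symm q.jl q.ik.symm q.kl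
    have m1 : P.t (F.p i k c) (e a) ∈ Ln (F.p j k c) (F.p i l c) := by
      have := P.cj_Ln (F.p i k c : G) (he a)
      obtain ⟨-, e1⟩ := F.join c 0 q.ik q.kl q.il
      rw [add_zero] at e1
      obtain ⟨-, e2⟩ := F.join (-c) 0 q.ik.symm q.ij q.jk.symm
      rw [F.symm c q.ik, add_zero, F.symm c q.jk] at e2
      rwa [show P.cj (F.p i k c : G) p = F.p j k c from e2, show P.cj (F.p i k c : G) s = F.p i l c from e1] at this
    have m2 : P.t (F.p j l c) (e b) ∈ Ln (F.p j k c) (F.p i l c) := by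
      have := P.cj_Ln (F.p j l c : G) (he b)
      obtain ⟨n1, e1⟩ := F.join 0 c q.ij q.jl q.il
      rw [zero_add] at e1
      obtain ⟨-, e2⟩ := F.join c 0 q.jl q.kl.symm q.jk
      rw [add_zero, F.symm' 0 q.kl, neg_zero] at e2
      rw [show P.cj (F.p j l c : G) p = F.p i l c from (P.t_symm n1).symm.trans e1,
        show P.cj (F.p j l c : G) s = F.p j k c from e2] at this
      intro w h1 h2
      exact this w h2 h1
    have c1 : Com (F.p i k b) (P.t (F.p i k c) (e a)) := by
      have hb : P.t (F.p i k c) (F.p i k a) = F.p i k b := by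
        rw [(F.same q.ik (Ne.symm hac)).2]
        exact congrArg _ ((show ∀ a b c : ZMod 3, a ≠ b → a ≠ c → b ≠ c → -c - a = b by decide) a b c hab hac hbc)
      rw [← hb]; exact (P.com_cj _ _ _).mpr (hec a).symm
    have c2 : Com (F.p i k b) (P.t (F.p j l c) (e b)) :=
      (P.com_t_iff (F.disj b c q.ik q.jl q.ij q.il q.jk.symm q.kl)).mpr (hec b).symm
    have hnj : ¬ Com (F.p i k b) (F.p j k c) := fun h => by
      rw [← F.symm b q.ik, ← F.symm c q.jk] at h
      exact F.not_com_adj q.ik.symm q.jk.symm q.ij (-b) (-c) h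
    rw [← P.t_symm hn1, ← P.t_symm hn2]
    exact P.unique hK cK m1 m2 c1 c2 (left_mem_Ln _ _) hnj
  have hee : ∀ a b, Commute (e a : G) (e b) := fun a b => P.com_of_mem hps cps (he a) (he b)
  have key : ∀ a b : ZMod 3, a ≠ b → a ≠ c → b ≠ c → P.cj ((e c : G) * (e a * e b)) (F.p j l c) = F.p i k c := by
    intro a b hab hac hbc
    rw [P.cj_mul, P.cj_mul]
    show P.t (e c) (P.t (e a) (P.t (e b) (F.p j l c))) = _
    rw [← h2 a b hab hac hbc, P.t_t, P.t_of_com (hec c)]
  rw [P.cj_mul, h1]
  rcases (show ∀ c : ZMod 3, c = 0 ∨ c = 1 ∨ c = 2 by decide) c with rfl | rfl | rfl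
  · rw [mul_assoc]; exact key 1 2 (by decide) (by decide) (by decide)
  · rw [(hee 0 1).eq, mul_assoc]; exact key 0 2 (by decide) (by decide) (by decide)
  · rw [((hee 0 2).mul_left (hee 1 2)).eq]; exact key 0 1 (by decide) (by decide) (by decide)

/-- A frame on four indices forces five points on every line. -/
theorem Frame.five (F : Frame P ι) (q : Four i j k l) {x y : D} (hxy : x ≠ y) (cxy : Com x y) : (Ln x y).ncard = 5 := by
  classical
  haveI := P.finD
  set p := F.p i j 0 with hp
  set s := F.p k l 0 with hs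
  have hps : p ≠ s := F.ne_disj q 0 0
  have cps : Com p s := F.disj 0 0 q.ij q.kl q.ik q.il q.jk q.jl
  rw [P.size x y p s hxy cxy hps cps]
  obtain ⟨e, he, hinj⟩ := F.exists_pick q
  have hset : Ln p s = {p, s} ∪ Set.range e := by
    refine Set.Subset.antisymm (fun d hd => ?_) ?_
    swap
    · rintro w ((rfl | rfl) | ⟨c, rfl⟩)
      exacts [left_mem_Ln _ _, right_mem_Ln _ _, he.mem c]
    by_contra hnot
    simp only [Set.mem_union, Set.mem_insert_iff, Set.mem_singleton_iff, Set.mem_range, not_or, not_exists] at hnot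
    obtain ⟨⟨hdp, hds⟩, hde⟩ := hnot
    have hik : ∀ c, ¬ Com (F.p i k c) d := fun c h =>
      hde c (P.unique hps cps (he.mem c) hd (he.one_ik c).com.symm h (left_mem_Ln _ _)
        fun h' => F.not_com_adj q.ij q.ik q.jk 0 c h'.symm)
    have h12 : ¬ Com (F.p i j 1) d := fun h =>
      hds (P.unique hps cps hd (right_mem_Ln _ _) h (F.disj 1 0 q.ij q.kl q.ik q.il q.jk q.jl) (left_mem_Ln _ _)
        (F.same q.ij (by decide)).1)
    have h34 : ¬ Com (F.p k l 1) d := fun h =>
      hdp (P.unique hps cps hd (left_mem_Ln _ _) h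
        (F.disj 1 0 q.kl q.ij q.ik.symm q.jk.symm q.il.symm q.jl.symm) (right_mem_Ln _ _) (F.same q.kl (by decide)).1)
    set p1 := F.p i j 1
    set s1 := F.p k l 1
    have hps1 : p1 ≠ s1 := F.ne_disj q 1 1
    have cps1 : Com p1 s1 := F.disj 1 1 q.ij q.kl q.ik q.il q.jk q.jl
    obtain ⟨d', hd', cdd'⟩ := P.one hps1 cps1 d
    have hne : ∀ w ∈ Ln p s, w ≠ d → ¬ Com d' w := by
      intro w hw hwd h
      have hp' : Com d' p := P.all_of_two hps cps hd hw (Ne.symm hwd) cdd'.symm h (left_mem_Ln _ _)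
      have h' : d' = s1 := P.unique hps1 cps1 hd' (right_mem_Ln _ _) hp'.symm
        (F.disj 0 1 q.ij q.kl q.ik q.il q.jk q.jl) (left_mem_Ln _ _) (F.same q.ij (by decide)).1
      exact h34 (h' ▸ cdd'.symm)
    set g : G := (e 0 : G) * e 1 * e 2 * ((p : G) * s) with hg
    have hq1 : F.p j i 0 = p := by rw [F.symm' 0 q.ij, neg_zero]
    have hq2 : F.p l k 0 = s := by rw [F.symm' 0 q.kl, neg_zero]
    have fik : ∀ c, P.cj g (F.p i k c) = F.p i k c := F.prod_fix q he.mem fun c => (he.one_ik c).com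
    have fil : ∀ c, P.cj g (F.p i l c) = F.p i l c := by
      intro c
      have := F.prod_fix q.swap' (e := e) (fun c => by rw [hq2]; exact he.mem c) (fun c => (he.one_il c).com) c
      rwa [hq2] at this
    have fjk : ∀ c, P.cj g (F.p j k c) = F.p j k c := by
      intro c
      have := F.prod_fix q.swap (e := e) (fun c => by rw [hq1]; exact he.mem c) (fun c => (he.one_jk c).com) c
      rwa [hq1] at this
    have f1 : P.cj g p1 = p1 := by
      have e1 : P.t (F.p i k 1) (F.p k j 0) = p1 := by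
        rw [(F.join 1 0 q.ik q.jk.symm q.ij).2, add_zero]
      conv_lhs => rw [← e1]
      rw [P.cj_cj, fik, F.symm' 0 q.jk, neg_zero, fjk, ← neg_zero, ← F.symm' 0 q.jk, e1]
    have f2 : P.cj g s1 = s1 := by
      have e1 : P.t (F.p k i 0) (F.p i l 1) = s1 := by
        rw [(F.join 0 1 q.ik.symm q.il q.kl).2, zero_add]
      conv_lhs => rw [← e1]
      rw [P.cj_cj, fil, F.symm' 0 q.ik, neg_zero, fik, ← neg_zero, ← F.symm' 0 q.ik, e1]
    have gd : P.cj g d = d := P.cj_eq_self.mpr
      ((((P.com_of_mem hps cps (he.mem 0) hd).mul_left (P.com_of_mem hps cps (he.mem 1) hd)).mul_left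
        (P.com_of_mem hps cps (he.mem 2) hd)).mul_left
        ((P.com_of_mem hps cps (left_mem_Ln p s) hd).mul_left (P.com_of_mem hps cps (right_mem_Ln p s) hd)))
    have gd' : P.cj g d' = d' := by
      have h1 := P.cj_Ln g hd'
      rw [f1, f2] at h1
      have h2 : Com d (P.cj g d') := gd ▸ (P.com_cj g _ _).mpr cdd'
      exact P.unique hps1 cps1 h1 hd' h2 cdd' (left_mem_Ln _ _) fun h => h12 h.symm
    have memp : ∀ c, ¬ Com d' (e c) := fun c => hne _ (he.mem c) fun e' => hde c e'
    have hA : Com (e 0) (e 1) := P.com_of_mem hps cps (he.mem 0) (he.mem 1)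
    have hX : Com d' (P.t (e 1) (P.t (e 0) d')) := P.com_t_t hA (memp 0) (memp 1)
    have hs0 : Com s (e 0) := P.com_of_mem hps cps (right_mem_Ln _ _) (he.mem 0)
    have hs1' : Com s (e 1) := P.com_of_mem hps cps (right_mem_Ln _ _) (he.mem 1)
    have hsX : ¬ Com s (P.t (e 1) (P.t (e 0) d')) := fun h => by
      rw [P.com_t_iff hs1', P.com_t_iff hs0] at h
      exact hne s (right_mem_Ln _ _) (Ne.symm hds) h.symm
    have hL : ¬ Com d' (P.t s (P.t (e 1) (P.t (e 0) d'))) := fun h =>
      hne s (right_mem_Ln _ _) (Ne.symm hds) ((P.com_t_iff' hsX hX).mp h)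
    have hp2 : Com p (e 2) := P.com_of_mem hps cps (left_mem_Ln _ _) (he.mem 2)
    have hR : Com d' (P.t (e 2) (P.t p d')) := P.com_t_t hp2 (hne p (left_mem_Ln _ _) (Ne.symm hdp)) (memp 2)
    refine hL ?_
    have hprod : g = ((e 2 : G) * p) * ((s : G) * (e 1 * e 0)) := by
      have c : ∀ {u v : D}, u ∈ Ln p s → v ∈ Ln p s → Commute (u : G) v := fun hu hv => P.com_of_mem hps cps hu hv
      have m := he.mem
      have hpm := left_mem_Ln p s
      have hsm := right_mem_Ln p s
      rw [hg, (((c (m 0) (m 2)).mul_left (c (m 1) (m 2)))).eq, (c (m 0) (m 1)).eq, mul_assoc (e 2 : G),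
        (((c (m 1) hpm).mul_left (c (m 0) hpm)).mul_right ((c (m 1) hsm).mul_left (c (m 0) hsm))).eq]
      simp only [mul_assoc]
    rw [hprod, P.cj_mul, P.cj_mul (s : G), P.cj_mul (e 1 : G)] at gd'
    have h3 := congrArg (P.cj ((p : G) * e 2)) gd'
    rw [← P.cj_mul, show (p : G) * e 2 * ((e 2 : G) * p) = 1 by
      rw [mul_assoc, ← mul_assoc (e 2 : G), P.sq', one_mul, P.sq'], P.cj_one] at h3
    show Com d' _
    change P.t s (P.t (e 1) (P.t (e 0) d')) = _ at h3
    rw [h3, hp2.eq, P.cj_mul]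
    exact hR
  rw [hset, Set.ncard_union_eq, Set.ncard_pair hps, Set.ncard_range_of_injective hinj]
  · simp
  · rw [Set.disjoint_left]
    rintro w (rfl | rfl) ⟨c, hc⟩
    exacts [he.ne_left c hc, he.ne_right c hc]

end CfsgLib.ThreeT.Tv
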