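import Cfsg.Agent.Spor3T.Tv.Setup
import Cfsg.Agent.Spor3T.FischerSpace

/-!
Frames: members in the place of the transvections on the vectors `e i + ω ^ a • e j` of a unitary space over the
field of four elements.
-/

set_option autoImplicit false
set_option linter.unusedSectionVars false

namespace CfsgLib.ThreeT.Tv

universe u v

variable {G : Type u} [Group G] {D : Set G}

/-- A frame indexed by `ι`. -/
structure Frame (P : Pol D) (ι : Type v) where
  p : ι → ι → ZMod 3 → D
  symm : ∀ {i j : ι} (a : ZMod 3), i ≠ j → p j i (-a) = p i j a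
  disj : ∀ {i j k l : ι} (a b : ZMod 3), i ≠ j → k ≠ l → i ≠ k → i ≠ l → j ≠ k → j ≠ l →
    Com (p i j a) (p k l b)
  join : ∀ {i j k : ι} (a b : ZMod 3), i ≠ j → j ≠ k → i ≠ k →
    ¬ Com (p i j a) (p j k b) ∧ P.t (p i j a) (p j k b) = p i k (a + b)
  same : ∀ {i j : ι} {a b : ZMod 3}, i ≠ j → a ≠ b →
    ¬ Com (p i j a) (p i j b) ∧ P.t (p i j a) (p i j b) = p i j (-a - b)

variable {P : Pol D} {ι : Type v}

/-- A frame restricted along an injection. -/
def Frame.restrict (F : Frame P ι) {κ : Type*} (g : κ → ι) (hg : Function.Injective g) : Frame P κ where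
  p i j := F.p (g i) (g j)
  symm a h := F.symm a (hg.ne h)
  disj a b h1 h2 h3 h4 h5 h6 := F.disj a b (hg.ne h1) (hg.ne h2) (hg.ne h3) (hg.ne h4) (hg.ne h5) (hg.ne h6)
  join a b h1 h2 h3 := F.join a b (hg.ne h1) (hg.ne h2) (hg.ne h3)
  same h hab := F.same (hg.ne h) hab

/-- A member in the place of `e i + e o` for a further index `o`. -/
def Frame.IsOut (F : Frame P ι) (f : D) (i : ι) : Prop :=
  (∀ k l a, k ≠ l → k ≠ i → l ≠ i → Com f (F.p k l a)) ∧ ∀ j a, j ≠ i → ¬ Com f (F.p i j a)

theorem Frame.symm' (F : Frame P ι) {i j : ι} (a : ZMod 3) (h : i ≠ j) : F.p j i a = F.p i j (-a) := by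
  have := F.symm (-a) h
  rwa [neg_neg] at this

theorem Frame.not_com_ne (F : Frame P ι) {i j : ι} (h : i ≠ j) {a b : ZMod 3} (hab : a ≠ b) :
    F.p i j a ≠ F.p i j b := fun e => (F.same h hab).1 (by rw [e])

section extend

variable [DecidableEq ι]

/-- The new members of the extension away from the index of the outer member. -/
abbrev extA (F : Frame P ι) (f : D) (i j : ι) (c : ZMod 3) : D := P.t f (F.p j i c)

/-- The entries of the extension at the new index. -/
def extCol (F : Frame P ι) (f : D) (i j₀ : ι) (x : ι) (c : ZMod 3) : D :=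
  if x = i then P.t (F.p i j₀ 0) (extA F f i j₀ c) else extA F f i x c

/-- The entries of the extension. -/
def extP (F : Frame P ι) (f : D) (i j₀ : ι) : Option ι → Option ι → ZMod 3 → D
  | some x, some y, a => F.p x y a
  | some x, none, c => extCol F f i j₀ x c
  | none, some x, c => extCol F f i j₀ x (-c)
  | none, none, _ => f

variable (F : Frame P ι) {f : D} {i j₀ : ι} (hf : F.IsOut f i) (hj₀ : j₀ ≠ i)
  (hthird : ∀ x y : ι, ∃ z, z ≠ x ∧ z ≠ y)
include hf

theorem extA_step {j k : ι} (hj : j ≠ i) (hk : k ≠ i) (hjk : j ≠ k) (b c : ZMod 3) :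
    ¬ Com (F.p j k b) (extA F f i k c) ∧ P.t (F.p j k b) (extA F f i k c) = extA F f i j (b + c) := by
  obtain ⟨h1, h2⟩ := F.join b c hjk hk hj
  have hfix : P.t f (F.p j k b) = F.p j k b := P.t_of_com (hf.1 j k b hjk hj hk)
  constructor
  · intro hc
    rw [← hfix] at hc
    exact h1 ((P.com_cj _ _ _).mp hc)
  · conv_lhs => rw [← hfix]
    show P.t (P.t f (F.p j k b)) (P.t f (F.p k i c)) = P.t f (F.p j i (b + c))
    rw [← h2]
    exact (P.cj_cj _ _ _).symm

theorem extA_disj {j k : ι} (hj : j ≠ i) (hk : k ≠ i) (hjk : j ≠ k) (b c : ZMod 3) :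
    Com (F.p i k b) (extA F f i j c) := by
  obtain ⟨h1, h2⟩ := F.join c b hj (Ne.symm hk) hjk
  have hfy : ¬ Com f (F.p j i c) := by
    rw [F.symm' c (Ne.symm hj)]; exact hf.2 j _ hj
  have h3 : Com (P.t (F.p j i c) (F.p i k b)) f := by
    rw [h2]; exact (hf.1 j k _ hjk hj hk).symm
  have h4 := (P.com_cj (F.p j i c : G) _ _).mpr h3
  rw [show P.cj (F.p j i c : G) (P.t (F.p j i c) (F.p i k b)) = F.p i k b from P.t_t _ _,
    show P.cj (F.p j i c : G) f = P.t f (F.p j i c) from (P.t_symm hfy).symm] at h4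
  exact h4

include hthird in
theorem extA_near {j : ι} (hj : j ≠ i) (a c : ZMod 3) :
    ¬ Com (F.p i j a) (extA F f i j c) ∧ ∀ k, k ≠ i → k ≠ j → ∀ a',
      P.t (F.p i j a) (extA F f i j c) = P.t (F.p i k a') (extA F f i k (a - a' + c)) := by
  have key : ∀ k, k ≠ i → k ≠ j → ∀ a', ¬ Com (F.p i j a) (extA F f i j c) ∧
      P.t (F.p i j a) (extA F f i j c) = P.t (F.p i k a') (extA F f i k (a - a' + c)) := by
    intro k hk hkj a'
    obtain ⟨-, h2⟩ := F.join a' (a - a') (Ne.symm hk) hkj (Ne.symm hj)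
    rw [add_sub_cancel] at h2
    have hfix : P.t (F.p i k a') (extA F f i j c) = extA F f i j c :=
      P.t_of_com (extA_disj F hf hj hk (Ne.symm hkj) a' c)
    obtain ⟨h3, h4⟩ := extA_step F hf hk hj hkj (a - a') c
    constructor
    · intro hc
      rw [← h2, ← hfix] at hc
      exact h3 ((P.com_cj _ _ _).mp hc)
    · rw [← h2]
      conv_lhs => rw [← hfix]
      rw [← h4]
      exact (P.cj_cj _ _ _).symm
  obtain ⟨k, hk, hkj⟩ := hthird i j
  exact ⟨(key k hk hkj 0).1, fun k hk hkj a' => (key k hk hkj a').2⟩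

include hj₀ hthird in
theorem extCol_self {j : ι} (hj : j ≠ i) (a c : ZMod 3) :
    P.t (F.p i j a) (extA F f i j c) = extCol F f i j₀ i (a + c) := by
  rw [extCol, if_pos rfl]
  by_cases h : j = j₀
  · subst h
    obtain ⟨k, hk, hkj⟩ := hthird i j
    rw [(extA_near F hf hthird hj a c).2 k hk hkj 0, (extA_near F hf hthird hj 0 (a + c)).2 k hk hkj 0]
    congr 2; abel
  · rw [(extA_near F hf hthird hj a c).2 j₀ hj₀ (Ne.symm h) 0]
    congr 2; abel

include hj₀ hthird in
/-- An outer member extends a frame by one index. -/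
theorem Frame.extend : ∃ F' : Frame P (Option ι), (∀ x y, F'.p (some x) (some y) = F.p x y) ∧
    ∀ x c, x ≠ i → F'.p (some x) none c = P.t f (F.p x i c) := by
  classical
  have hcol : ∀ x, x ≠ i → ∀ c, extCol F f i j₀ x c = extA F f i x c := fun x hx c => by rw [extCol, if_neg hx]
  have hsymm : ∀ {x y : Option ι} (a : ZMod 3), x ≠ y → extP F f i j₀ y x (-a) = extP F f i j₀ x y a := by
    intro x y a hxy
    rcases x with _ | x <;> rcases y with _ | y
    · exact absurd rfl hxy
    · rfl
    · show extCol F f i j₀ x (- -a) = _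
      rw [neg_neg]; rfl
    · exact F.symm a fun e => hxy (congrArg some e)
  -- one orientation of a triangle gives all
  have hswap₁ : ∀ x y z : Option ι, x ≠ y → y ≠ z → x ≠ z →
      (∀ a b, ¬ Com (extP F f i j₀ x y a) (extP F f i j₀ y z b) ∧
        P.t (extP F f i j₀ x y a) (extP F f i j₀ y z b) = extP F f i j₀ x z (a + b)) →
      ∀ a b, ¬ Com (extP F f i j₀ z y a) (extP F f i j₀ y x b) ∧
        P.t (extP F f i j₀ z y a) (extP F f i j₀ y x b) = extP F f i j₀ z x (a + b) := by
    intro x y z hxy hyz hxz h a b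
    obtain ⟨h1, h2⟩ := h (-b) (-a)
    rw [← hsymm (-b) hxy, ← hsymm (-a) hyz, neg_neg, neg_neg] at h1 h2
    refine ⟨fun hc => h1 hc.symm, ?_⟩
    rw [← P.t_symm h1, h2, ← hsymm _ hxz]
    congr 1; abel
  have hswap₂ : ∀ x y z : Option ι, x ≠ y → y ≠ z → x ≠ z →
      (∀ a b, ¬ Com (extP F f i j₀ x y a) (extP F f i j₀ y z b) ∧
        P.t (extP F f i j₀ x y a) (extP F f i j₀ y z b) = extP F f i j₀ x z (a + b)) →
      ∀ a b, ¬ Com (extP F f i j₀ y x a) (extP F f i j₀ x z b) ∧
        P.t (extP F f i j₀ y x a) (extP F f i j₀ x z b) = extP F f i j₀ y z (a + b) := by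
    intro x y z hxy hyz hxz h a b
    obtain ⟨h1, h2⟩ := h (-a) (a + b)
    rw [neg_add_cancel_left] at h2
    rw [← hsymm (-a) hxy, neg_neg] at h1 h2
    obtain ⟨h3, -, -, h4, -, -, -⟩ := P.t_rot h1 h2
    exact ⟨h3, h4⟩
  have hcore : ∀ x y : ι, x ≠ y → y ≠ i → ∀ a b,
      ¬ Com (extP F f i j₀ (some x) (some y) a) (extP F f i j₀ (some y) none b) ∧
        P.t (extP F f i j₀ (some x) (some y) a) (extP F f i j₀ (some y) none b) =
          extP F f i j₀ (some x) none (a + b) := by
    intro x y hxy hy a b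
    show ¬ Com (F.p x y a) (extCol F f i j₀ y b) ∧
      P.t (F.p x y a) (extCol F f i j₀ y b) = extCol F f i j₀ x (a + b)
    rw [hcol y hy]
    by_cases hx : x = i
    · subst hx
      exact ⟨(extA_near F hf hthird hy a b).1, extCol_self F hf hj₀ hthird hy a b⟩
    · rw [hcol x hx]; exact extA_step F hf hx hy hxy a b
  have hjoin : ∀ x y z : Option ι, x ≠ y → y ≠ z → x ≠ z → ∀ a b,
      ¬ Com (extP F f i j₀ x y a) (extP F f i j₀ y z b) ∧
        P.t (extP F f i j₀ x y a) (extP F f i j₀ y z b) = extP F f i j₀ x z (a + b) := by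
    have hnone : ∀ x y : ι, x ≠ y → ∀ a b,
        ¬ Com (extP F f i j₀ (some x) (some y) a) (extP F f i j₀ (some y) none b) ∧
          P.t (extP F f i j₀ (some x) (some y) a) (extP F f i j₀ (some y) none b) =
            extP F f i j₀ (some x) none (a + b) := by
      intro x y hxy
      by_cases hy : y = i
      · exact hswap₂ (some y) (some x) none (by simpa using hxy.symm) (by simp) (by simp)
          (hcore y x hxy.symm (fun e => hxy (e.trans hy.symm)))
      · exact hcore x y hxy hy
    intro x y z hxy hyz hxz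
    rcases x with _ | x <;> rcases y with _ | y <;> rcases z with _ | z
    · exact absurd rfl hxy
    · exact absurd rfl hxy
    · exact absurd rfl hxz
    · -- the new index first
      exact hswap₁ _ _ _ (by simpa using hyz.symm) (by simp) (by simp)
        (hnone z y fun e => hyz (congrArg some e.symm))
    · exact absurd rfl hyz
    · -- the new index in the middle
      have h0 : x ≠ z := fun e => hxz (congrArg some e)
      exact hswap₂ none (some x) (some z) (by simp) (by simpa using h0) (by simp)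
        (hswap₁ (some z) (some x) none (by simpa using h0.symm) (by simp) (by simp) (hnone z x h0.symm))
    · exact hnone x y fun e => hxy (congrArg some e)
    · exact fun a b => F.join a b (fun e => hxy (congrArg some e)) (fun e => hyz (congrArg some e))
        fun e => hxz (congrArg some e)
  have hdisj : ∀ k l x : ι, k ≠ l → x ≠ k → x ≠ l → ∀ a c, Com (F.p k l a) (extCol F f i j₀ x c) := by
    intro k l x hkl hxk hxl a c
    by_cases hx : x = i
    · subst hx
      obtain ⟨-, h2⟩ := F.join 0 a hxk hkl hxl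
      rw [show extCol F f x j₀ x c = P.t (F.p x k 0) (extA F f x k c) by
        rw [extCol_self F hf hj₀ hthird (Ne.symm hxk) 0 c, zero_add]]
      have h3 : Com (P.t (F.p x k 0) (F.p k l a)) (extA F f x k c) := by
        rw [h2, zero_add]; exact extA_disj F hf (Ne.symm hxk) (Ne.symm hxl) hkl a c
      have h4 := (P.com_cj (F.p x k 0 : G) _ _).mpr h3
      rwa [show P.cj (F.p x k 0 : G) (P.t (F.p x k 0) (F.p k l a)) = F.p k l a from P.t_t _ _] at h4
    rw [hcol x hx]
    by_cases hk : k = i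
    · subst hk; exact extA_disj F hf hx (Ne.symm hkl) hxl a c
    by_cases hl : l = i
    · subst hl
      rw [F.symm' a (Ne.symm hkl)]
      exact extA_disj F hf hx hk hxk _ c
    have h1 : Com (F.p k l a) f := (hf.1 k l a hkl hk hl).symm
    exact (P.com_t_iff h1).mpr (F.disj a c hkl hx (Ne.symm hxk) hk (Ne.symm hxl) hl)
  have hsame : ∀ x : ι, ∀ {a b : ZMod 3}, a ≠ b → ¬ Com (extCol F f i j₀ x a) (extCol F f i j₀ x b) ∧
      P.t (extCol F f i j₀ x a) (extCol F f i j₀ x b) = extCol F f i j₀ x (-a - b) := by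
    intro x a b hab
    by_cases hx : x = i
    · subst hx
      obtain ⟨h1, h2⟩ := F.same hj₀ hab
      simp only [extCol, if_pos rfl, extA]
      refine ⟨fun hc => h1 ((P.com_cj _ _ _).mp ((P.com_cj _ _ _).mp hc)), ?_⟩
      rw [← h2]
      exact ((congrArg (P.cj _) (P.cj_cj _ _ _)).trans (P.cj_cj _ _ _)).symm
    · obtain ⟨h1, h2⟩ := F.same hx hab
      rw [hcol x hx, hcol x hx, hcol x hx]
      refine ⟨fun hc => h1 ((P.com_cj _ _ _).mp hc), ?_⟩
      rw [extA, extA, extA, ← h2]
      exact (P.cj_cj _ _ _).symm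
  refine ⟨⟨extP F f i j₀, hsymm, ?_, fun a b h1 h2 h3 => hjoin _ _ _ h1 h2 h3 a b, ?_⟩, fun x y => rfl,
    fun x c hx => hcol x hx c⟩
  · intro x y z w a b hxy hzw hxz hxw hyz hyw
    rcases x with _ | x <;> rcases y with _ | y <;> rcases z with _ | z <;> rcases w with _ | w
    all_goals simp only [ne_eq, not_true_eq_false, Option.some.injEq] at hxy hzw hxz hxw hyz hyw
    · exact (hdisj z w y hzw hyz hyw b (-a)).symm
    · exact (hdisj z w x hzw hxz hxw b a).symm
    · exact hdisj x y w hxy (Ne.symm hxw) (Ne.symm hyw) a (-b)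
    · exact hdisj x y z hxy (Ne.symm hxz) (Ne.symm hyz) a b
    · exact F.disj a b hxy hzw hxz hxw hyz hyw
  · intro x y a b hxy hab
    rcases x with _ | x <;> rcases y with _ | y
    · exact absurd rfl hxy
    · obtain ⟨h1, h2⟩ := hsame y (show -a ≠ -b from fun e => hab (neg_injective e))
      refine ⟨h1, h2.trans ?_⟩
      show _ = extCol F f i j₀ y (-(-a - b))
      congr 1; abel
    · exact hsame x hab
    · exact F.same (fun e => hxy (congrArg some e)) hab

end extend

/-- An affine triangle gives a frame on three indices. -/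
theorem exists_frame_three {x y u : D} (hxy : ¬ Com x y) (hux : ¬ Com u x) (huy : ¬ Com u y)
    (huz : ¬ Com u (P.t x y)) : ∃ F : Frame P (ZMod 3),
      F.p 0 1 0 = x ∧ F.p 0 1 1 = y ∧ F.p 0 1 2 = P.t x y ∧ F.p 1 2 0 = u := by
  classical
  have hset := P.cls.1
  have hconj : ∀ g : G, ∀ d ∈ D, g * d * g⁻¹ ∈ D := fun g d hd => conj_mem P.cls hd g
  have tofi : ∀ {a b c : D}, ¬ Com a b → P.t a b = c → Fischer.IsThird a b c := fun {a b c} h e =>
    ⟨h, by rw [← e, P.t_symm h]; rfl⟩
  have toT : ∀ {a b c : D}, Fischer.IsThird a b c → ¬ Com a b ∧ P.t a b = c := fun {a b c} h =>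
    ⟨h.1, Subtype.ext ((h.braid' hset).symm)⟩
  set p := x
  set a := y
  set a' := P.t x y
  set b := u
  set b' := P.t x u
  have ha : Fischer.IsThird p a a' := tofi hxy rfl
  have hb : Fischer.IsThird p b b' := tofi (fun h : Com x u => hux h.symm) rfl
  have h1 : ¬ Commute (a : G) b := fun h => huy h.symm
  have h2 : ¬ Commute (a : G) b' := fun h => huz (by
    have h' := (P.com_cj (x : G) _ _).mpr h
    rw [show P.cj (x : G) b' = u from P.t_t x u] at h'
    exact h'.symm)
  have h3 : ¬ Commute (a' : G) b := fun h => huz h.symm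
  have h4 : ¬ Commute (a' : G) b' := fun h => huy ((P.com_cj (x : G) _ _).mp h).symm
  obtain ⟨c, hc⟩ := Fischer.exists_third hset hconj h1
  obtain ⟨e, he⟩ := Fischer.exists_third hset hconj h2
  obtain ⟨d, hd⟩ := Fischer.exists_third hset hconj h3
  obtain ⟨f₁, hf₁⟩ := Fischer.exists_third hset hconj h4
  have r := fun {x y z : D} (h : Fischer.IsThird x y z) => h.rot hset
  have w := fun {x y z : D} (h : Fischer.IsThird x y z) => h.swap hset
  have dist : ∀ {g x x' y y' z z' : D}, Fischer.IsThird g x x' → Fischer.IsThird g y y' → Fischer.IsThird x y z →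
      Fischer.IsThird x' y' z' → (z' : G) = g * z * (g : G)⁻¹ := by
    intro g x x' y y' z z' hx hy h h'
    rw [h'.2, h.2, hx.braid' hset, hy.braid' hset]
    group
  have nc : ∀ {g x x' y y' : D}, Fischer.IsThird g x x' → Fischer.IsThird g y y' → ¬ Commute (x' : G) y' →
      ¬ Commute (x : G) y := by
    intro g x x' y y' hx hy h hc'
    apply h
    rw [hx.braid' hset, hy.braid' hset]
    exact (commute_conj_iff _ _ _).mpr hc'
  have mk : ∀ {g x z : D}, ¬ Commute (g : G) x → (z : G) = g * x * (g : G)⁻¹ → Fischer.IsThird g x z := by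
    intro g x z h hz
    exact tofi h (Subtype.ext hz.symm)
  have hpc : Fischer.IsThird p c f₁ := mk (nc (g := a) (w ha) (r hc) h3) (dist ha hb hc hf₁)
  have hpd : Fischer.IsThird p d e := mk (nc (g := a') (w (r ha)) (r hd) h1) (dist (r ha) hb hd he)
  have hafd : Fischer.IsThird a f₁ d := mk (nc (g := a') (r (w (r ha))) (r hf₁) (r hb).1)
    (dist (r (w ha)) he hf₁ (r hpd))
  have ha'ce : Fischer.IsThird a' c e := mk (nc (g := a) (r (w ha)) (r hc) hb.1)
    (dist (r (w (r ha))) hd hc hpd)
  have hbfe : Fischer.IsThird b f₁ e := mk (nc (g := b') (r (w (r hb))) (r (w hf₁)) (r ha).1)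
    (dist (w hd) (r (w hb)) hf₁ (w hpd))
  have hb'cd : Fischer.IsThird b' c d := mk (nc (g := b) (r (w hb)) (r (w hc)) ha.1)
    (dist (w he) (r (w (r hb))) hc (w (r hpd)))
  let g : Fin 3 → Fin 3 → D := ![![p, b, b'], ![a, f₁, d], ![a', e, c]]
  have htab : ∀ i j k l : Fin 3, (j < l ∨ j = l ∧ i < k) →
      Fischer.IsThird (g i j) (g k l) (g (-(i + k)) (-(j + l))) ∨
        Fischer.IsThird (g k l) (g i j) (g (-(i + k)) (-(j + l))) := by
    have := ha; have := r ha; have := r (w ha)
    have := hb; have := r hb; have := r (w hb)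
    have := hpc; have := r hpc; have := r (w hpc)
    have := hpd; have := r hpd; have := r (w hpd)
    have := hc; have := r hc; have := r (w hc)
    have := hf₁; have := r hf₁; have := r (w hf₁)
    have := hd; have := r hd; have := r (w hd)
    have := he; have := r he; have := r (w he)
    have := hafd; have := r hafd; have := r (w hafd)
    have := ha'ce; have := r ha'ce; have := r (w ha'ce)
    have := hbfe; have := r hbfe; have := r (w hbfe)
    have := hb'cd; have := r hb'cd; have := r (w hb'cd)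
    intro i j k l hne
    fin_cases i <;> fin_cases j <;> fin_cases k <;> fin_cases l
    all_goals first
      | exact absurd hne (by decide)
      | (simp [g] <;> tauto)
  let f : ZMod 3 → ZMod 3 → D := fun u v => g u v
  have hthird : ∀ u v u' v' : ZMod 3, ¬ (u = u' ∧ v = v') →
      ¬ Com (f u v) (f u' v') ∧ P.t (f u v) (f u' v') = f (-(u + u')) (-(v + v')) := by
    intro u v u' v' hne
    rcases (show ∀ u v u' v' : Fin 3, ¬ (u = u' ∧ v = v') →
        (v < v' ∨ v = v' ∧ u < u') ∨ (v' < v ∨ v' = v ∧ u' < u) by decide) u v u' v' hne with h | h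
    · rcases htab u v u' v' h with h | h
      · exact toT h
      · exact toT (w h)
    · rw [add_comm u, add_comm v]
      rcases htab u' v' u v h with h | h
      · exact toT (w h)
      · exact toT h
  let q : ZMod 3 → ZMod 3 → ZMod 3 → D := fun i j a => f ((j - i) * a) (1 - i - j)
  refine ⟨⟨q, ?_, ?_, ?_, ?_⟩, rfl, rfl, rfl, rfl⟩
  · intro i j a _
    show f _ _ = f _ _
    rw [show (i - j) * -a = (j - i) * a by ring, show (1 : ZMod 3) - j - i = 1 - i - j by ring]
  · intro i j k l a b h1 h2 h3 h4 h5 h6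
    exact absurd rfl ((show ∀ i j k l : ZMod 3, i ≠ j → k ≠ l → i ≠ k → i ≠ l → j ≠ k → j ≠ l → i ≠ i by decide)
      i j k l h1 h2 h3 h4 h5 h6)
  · intro i j k a b h1 h2 h3
    obtain ⟨e1, e2, e3⟩ := (show ∀ i j k : ZMod 3, i ≠ j → j ≠ k → i ≠ k → ∀ a b : ZMod 3,
      ¬ ((j - i) * a = (k - j) * b ∧ 1 - i - j = 1 - j - k) ∧
        -((j - i) * a + (k - j) * b) = (k - i) * (a + b) ∧ -(1 - i - j + (1 - j - k)) = 1 - i - k by decide)
      i j k h1 h2 h3 a b
    obtain ⟨h, h'⟩ := hthird _ _ _ _ e1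
    refine ⟨h, h'.trans ?_⟩
    rw [e2, e3]
  · intro i j a b hij hab
    obtain ⟨e1, e2, e3⟩ := (show ∀ i j : ZMod 3, i ≠ j → ∀ a b : ZMod 3, a ≠ b →
      ¬ ((j - i) * a = (j - i) * b ∧ 1 - i - j = 1 - i - j) ∧
        -((j - i) * a + (j - i) * b) = (j - i) * (-a - b) ∧ -(1 - i - j + (1 - i - j)) = 1 - i - j by decide)
      i j hij a b hab
    obtain ⟨h, h'⟩ := hthird _ _ _ _ e1
    refine ⟨h, h'.trans ?_⟩
    rw [e2, e3]

end CfsgLib.ThreeT.Tv
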