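import Cfsg.Agent.Spor3T.Tv.Setup
import Cfsg.Agent.Forms.OfBilin
import Cfsg.Agent.Classical.SymplecticBasic

/-!
The polar classes without affine triangles: the transvections of a symplectic group over the field of two elements.
-/

set_option autoImplicit false
set_option linter.unusedSectionVars false

namespace CfsgLib.ThreeT.Tv

universe u

variable {G : Type u} [Group G] {D : Set G}

open Classical in
/-- The indicator of the members not commuting with one member. -/
noncomputable def phi (a : D) : D → ZMod 2 := fun f => if Com a f then 0 else 1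

theorem phi_com {a f : D} (h : Com a f) : phi a f = 0 := by rw [phi, if_pos h]

theorem phi_far {a f : D} (h : ¬ Com a f) : phi a f = 1 := by rw [phi, if_neg h]

theorem phi_eq_zero {a f : D} : phi a f = 0 ↔ Com a f :=
  ⟨fun h => by_contra fun hn => one_ne_zero ((phi_far hn).symm.trans h), phi_com⟩

theorem phi_symm (a f : D) : phi a f = phi f a := by
  by_cases h : Com a f
  · rw [phi_com h, phi_com (Com.symm h)]
  · rw [phi_far h, phi_far fun hc => h (Com.symm hc)]

/-- There is no member meeting a triangle in nothing. -/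
def NoTriangle (P : Pol D) : Prop := ∀ x y u : D, ¬ Com x y → Com u x ∨ Com u y ∨ Com u (P.t x y)

variable (P : Pol D) (hA : NoTriangle P)
include P hA

theorem parity {x y : D} (hxy : ¬ Com x y) : phi (P.t x y) = phi x + phi y := by
  funext f
  rw [Pi.add_apply]
  by_cases hx : Com x f <;> by_cases hy : Com y f
  · rw [phi_com hx, phi_com hy, phi_com ((P.com_t_iff hx.symm).mpr hy.symm).symm]; decide
  · rw [phi_com hx, phi_far hy, phi_far fun hc => hy ((P.com_t_iff hx.symm).mp hc.symm).symm]; decide
  · rw [phi_far hx, phi_com hy, phi_far fun hc => hx ((P.com_t_iff' hxy hy.symm).mp hc.symm).symm]; decide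
  · rcases hA x y f hxy with h | h | h
    · exact absurd h.symm hx
    · exact absurd h.symm hy
    · rw [phi_far hx, phi_far hy, phi_com h.symm]; decide

theorem line_three {a x : D} (hax : a ≠ x) (cax : Com a x) : (Ln a x).ncard = 3 := by
  haveI := P.finD
  obtain ⟨e, heL, hea, hex⟩ := P.three a x hax cax
  obtain ⟨c, hca, hcx⟩ := P.res a x hax cax
  have hcne : c ≠ a := fun h => hcx (h ▸ cax)
  obtain ⟨d, hdx, hda⟩ := P.res x a (Ne.symm hax) cax.symm
  have hde : ¬ Com d e := fun h =>
    hda (P.all_of_two hax cax (right_mem_Ln a x) heL (Ne.symm hex) hdx h (left_mem_Ln a x))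
  have hex' : Com e x := P.com_of_mem hax cax heL (right_mem_Ln a x)
  obtain ⟨w, hw, hdw⟩ := P.one (Ne.symm hcne) hca.symm d
  have hwa : w ≠ a := fun h => hda (h ▸ hdw)
  have hmem : ∀ m ∈ Ln a c, m ≠ a → m ≠ w → P.cj ((e : G) * x) m = w := by
    intro m hm hma hmw
    have hmy : Com m a := P.com_of_mem (Ne.symm hcne) hca.symm hm (left_mem_Ln a c)
    have heq : Ln a e = Ln a x := P.Ln_eq hax cax (left_mem_Ln a x) heL (Ne.symm hea)
    have h1 := P.shift a e x m _ hea (P.com_of_mem hax cax heL (left_mem_Ln a x))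
      (heq ▸ right_mem_Ln a x) (Ne.symm hax) hma hmy (P.coe_cj _ _)
    rw [P.Ln_eq (Ne.symm hcne) hca.symm (left_mem_Ln a c) hm (Ne.symm hma)] at h1
    have hxm : ¬ Com x m := fun h => P.cross hax cax hca hcx hm hma (right_mem_Ln a x) (Ne.symm hax) h.symm
    have hem : ¬ Com e m := fun h => P.cross hax cax hca hcx hm hma heL hea h.symm
    have hdm : ¬ Com d m := fun h => hmw (P.unique (Ne.symm hcne) hca.symm hm hw h hdw (left_mem_Ln a c) hda)
    have hcom : Com (P.cj ((e : G) * x) m) d := by
      rw [← phi_eq_zero, P.cj_mul]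
      show phi (P.t e (P.t x m)) d = 0
      rw [parity P hA (fun h => hem ((P.com_t_iff hex').mp h)), parity P hA hxm, Pi.add_apply, Pi.add_apply,
        phi_com hdx.symm, phi_far (fun h : Com e d => hde h.symm), phi_far (fun h : Com m d => hdm h.symm)]
      decide
    exact P.unique (Ne.symm hcne) hca.symm h1 hw hcom.symm hdw (left_mem_Ln a c) hda
  have hle : (Ln a c).ncard ≤ 3 := by
    by_contra hgt
    push Not at hgt
    have h2 : 1 < ((Ln a c) \ {a, w}).ncard := by
      rw [Set.ncard_sdiff (by rintro z (rfl | rfl); exacts [left_mem_Ln _ _, hw]), Set.ncard_pair (Ne.symm hwa)]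
      omega
    obtain ⟨p, q, hp, hq, hpq⟩ := (Set.one_lt_ncard_iff).mp h2
    simp only [Set.mem_sdiff, Set.mem_insert_iff, Set.mem_singleton_iff, not_or] at hp hq
    exact hpq (P.cj_inj.mp ((hmem p hp.1 hp.2.1 hp.2.2).trans (hmem q hq.1 hq.2.1 hq.2.2).symm))
  rw [P.size a x a c hax cax (Ne.symm hcne) hca.symm]
  refine le_antisymm hle ?_
  rw [← P.size a x a c hax cax (Ne.symm hcne) hca.symm]
  calc 3 = ({a, x, e} : Set D).ncard :=
      (Set.ncard_eq_three.mpr ⟨a, x, e, hax, Ne.symm hea, Ne.symm hex, rfl⟩).symm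
    _ ≤ _ := Set.ncard_le_ncard (by
      rintro z (rfl | rfl | rfl)
      exacts [left_mem_Ln _ _, right_mem_Ln _ _, heL])

/-- The indicators are closed under sums of distinct ones. -/
theorem exists_sum {x y : D} (hxy : x ≠ y) : ∃ z, phi z = phi x + phi y := by
  haveI := P.finD
  by_cases hc : Com x y
  · obtain ⟨z, hz, hzx, hzy⟩ := P.three x y hxy hc
    have hL : Ln x y = {x, y, z} := (Set.eq_of_subset_of_ncard_le (by
      rintro w (rfl | rfl | rfl)
      exacts [left_mem_Ln _ _, right_mem_Ln _ _, hz])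
      (by rw [line_three P hA hxy hc, Set.ncard_eq_three.mpr ⟨x, y, z, hxy, Ne.symm hzx, Ne.symm hzy, rfl⟩])).symm
    refine ⟨z, funext fun f => ?_⟩
    rw [Pi.add_apply]
    by_cases hx : Com x f <;> by_cases hy : Com y f
    · rw [phi_com hx, phi_com hy, phi_com (hz f hx.symm hy.symm).symm]; decide
    · rw [phi_com hx, phi_far hy, phi_far fun h => hy (P.all_of_two hxy hc hz (left_mem_Ln x y) hzx h.symm hx.symm
        (right_mem_Ln x y)).symm]; decide
    · rw [phi_far hx, phi_com hy, phi_far fun h => hx (P.all_of_two hxy hc hz (right_mem_Ln x y) hzy h.symm hy.symm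
        (left_mem_Ln x y)).symm]; decide
    · obtain ⟨w, hw, hfw⟩ := P.one hxy hc f
      rw [hL] at hw
      rcases hw with rfl | rfl | rfl
      · exact absurd hfw.symm hx
      · exact absurd hfw.symm hy
      · rw [phi_far hx, phi_far hy, phi_com hfw.symm]; decide
  · exact ⟨_, parity P hA hc⟩

omit hA in
theorem phi_injective : Function.Injective (phi (D := D)) := fun a b h =>
  P.twins a b fun f => by rw [← phi_eq_zero, h, phi_eq_zero]

omit hA in
theorem phi_ne_zero (a : D) : phi a ≠ 0 := fun h => by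
  obtain ⟨c, hc⟩ := P.ex_far a
  exact hc (phi_eq_zero.mp (congrFun h c))

/-- The space of the indicators. -/
def phiSpace : Submodule (ZMod 2) (D → ZMod 2) where
  carrier := {v | v = 0 ∨ ∃ a, phi a = v}
  zero_mem' := Or.inl rfl
  add_mem' := by
    rintro v w (rfl | ⟨a, rfl⟩) hw
    · rwa [zero_add]
    rcases hw with rfl | ⟨b, rfl⟩
    · rw [add_zero]; exact Or.inr ⟨a, rfl⟩
    by_cases e : a = b
    · subst e; exact Or.inl (funext fun f => CharTwo.add_self_eq_zero _)
    · exact Or.inr (exists_sum P hA e)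
  smul_mem' c v hv := by
    rcases (show ∀ c : ZMod 2, c = 0 ∨ c = 1 by decide) c with rfl | rfl
    · rw [zero_smul]; exact Or.inl rfl
    · rwa [one_smul]

open Classical in
/-- The pairing of indicators. -/
noncomputable def phiPair (v w : phiSpace P hA) : ZMod 2 :=
  if h : ∃ a, phi a = (w : D → ZMod 2) then v.1 h.choose else 0

theorem phiPair_phi (v : phiSpace P hA) (b : D) (w : phiSpace P hA) (hw : phi b = w.1) :
    phiPair P hA v w = v.1 b := by
  have h : ∃ a, phi a = (w : D → ZMod 2) := ⟨b, hw⟩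
  rw [phiPair, dif_pos h, phi_injective P (h.choose_spec.trans hw.symm)]

theorem phiPair_zero (v : phiSpace P hA) : phiPair P hA v 0 = 0 := by
  rw [phiPair, dif_neg]
  rintro ⟨a, ha⟩
  exact phi_ne_zero P a ha

theorem phiPair_comm (v w : phiSpace P hA) : phiPair P hA v w = phiPair P hA w v := by
  rcases v.2 with hv | ⟨a, ha⟩ <;> rcases w.2 with hw | ⟨b, hb⟩
  · rw [show v = 0 from Subtype.ext hv, show w = 0 from Subtype.ext hw]
  · rw [show v = 0 from Subtype.ext hv, phiPair_zero, phiPair_phi P hA _ b w hb]; rfl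
  · rw [show w = 0 from Subtype.ext hw, phiPair_zero, phiPair_phi P hA _ a v ha]; rfl
  · rw [phiPair_phi P hA v b w hb, phiPair_phi P hA w a v ha, ← ha, ← hb]; exact phi_symm a b

theorem phiPair_add_left (v v' w : phiSpace P hA) :
    phiPair P hA (v + v') w = phiPair P hA v w + phiPair P hA v' w := by
  unfold phiPair
  split
  · rfl
  · rw [add_zero]

theorem phiPair_smul_left (c : ZMod 2) (v w : phiSpace P hA) :
    phiPair P hA (c • v) w = c • phiPair P hA v w := by
  unfold phiPair
  split
  · rfl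
  · rw [smul_zero]

/-- The pairing as a bilinear form. -/
noncomputable def phiForm : LinearMap.BilinForm (ZMod 2) (phiSpace P hA) :=
  LinearMap.mk₂ (ZMod 2) (phiPair P hA) (phiPair_add_left P hA) (phiPair_smul_left P hA)
    (fun v w w' => by
      rw [phiPair_comm, phiPair_add_left, phiPair_comm P hA w, phiPair_comm P hA w'])
    (fun c v w => by rw [phiPair_comm, phiPair_smul_left, phiPair_comm P hA w])

theorem phiForm_apply (v w : phiSpace P hA) : phiForm P hA v w = phiPair P hA v w := rfl

theorem phiForm_isAlt : (phiForm P hA).IsAlt := fun v => by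
  rw [phiForm_apply]
  rcases v.2 with hv | ⟨a, ha⟩
  · rw [show v = 0 from Subtype.ext hv]; exact phiPair_zero P hA _
  · rw [phiPair_phi P hA v a v ha, ← ha]; exact phi_com (Commute.refl _)

/-- An indicator as a vector. -/
noncomputable def phiVec (a : D) : phiSpace P hA := ⟨phi a, Or.inr ⟨a, rfl⟩⟩

theorem phiForm_phiVec (v : phiSpace P hA) (c : D) : phiForm P hA v (phiVec P hA c) = v.1 c :=
  phiPair_phi P hA v c _ rfl

/-- The members are the non-zero vectors of a symplectic space, commuting being orthogonality. -/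
theorem exists_coord : ∃ (m : ℕ) (vec : D → (Fin m ⊕ Fin m → ZMod 2)), Function.Injective vec ∧
    (∀ a, vec a ≠ 0) ∧ (∀ v, v ≠ 0 → ∃ a, vec a = v) ∧
    (∀ a b, CfsgLib.Symp.form (vec a) (vec b) = phi a b) ∧
    ∀ a b, vec (P.t a b) = CfsgLib.Symp.tv (vec a) (1 : ZMod 2) • vec b := by
  classical
  haveI := P.finD
  obtain ⟨m, k, b, h1, h2, h3, h4⟩ := CfsgLib.Forms.exists_symplectic_basis _ (phiSpace P hA) (phiForm P hA)
    (phiForm_isAlt P hA) rfl
  have hk : IsEmpty (Fin k) := ⟨fun j => by
    rcases (b (Sum.inr j)).2 with hv | ⟨a, ha⟩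
    · exact b.ne_zero (Sum.inr j) (Subtype.ext hv)
    · obtain ⟨c, hc⟩ := P.ex_far a
      have := h4 j (phiVec P hA c)
      rw [phiForm_phiVec, ← ha] at this
      exact hc (phi_eq_zero.mp this)⟩
  let b' := b.reindex (Equiv.sumEmpty (Fin m ⊕ Fin m) (Fin k))
  have hb' : ∀ i, b' i = b (Sum.inl i) := fun i => by
    simp [b', Equiv.sumEmpty]
  let e := b'.equivFun
  have hneg : ∀ c : ZMod 2, -c = c := CharTwo.neg_eq
  let S : LinearMap.BilinForm (ZMod 2) (phiSpace P hA) :=
    LinearMap.mk₂ (ZMod 2) (fun v w => CfsgLib.Symp.form (e v) (e w))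
      (fun v v' w => by rw [map_add, CfsgLib.Symp.form_add_left])
      (fun c v w => by rw [map_smul, CfsgLib.Symp.form_smul_left]; rfl)
      (fun v w w' => by rw [map_add, CfsgLib.Symp.form_add_right])
      (fun c v w => by rw [map_smul, CfsgLib.Symp.form_smul_right]; rfl)
  have he : ∀ i, e (b' i) = Pi.single i 1 := fun i => funext fun j => by
    rw [show e = b'.equivFun from rfl, b'.equivFun_self, Pi.single_apply]
    simp only [eq_comm]
  have hform : ∀ v w, phiForm P hA v w = CfsgLib.Symp.form (e v) (e w) := by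
    suffices h : phiForm P hA = S from fun v w => by rw [h]; rfl
    refine LinearMap.ext_basis b' b' fun i j => ?_
    show _ = CfsgLib.Symp.form (e (b' i)) (e (b' j))
    rw [he, he, hb', hb']
    rcases i with i | i <;> rcases j with j | j
    · rw [h2, CfsgLib.Symp.form_single_inl, Pi.single_apply, if_neg (by simp), mul_zero, neg_zero]
    · rw [h1, CfsgLib.Symp.form_single_inl, Pi.single_apply, one_mul, hneg]
      simp only [Sum.inr.injEq]
    · rw [phiForm_apply, phiPair_comm, ← phiForm_apply, h1, CfsgLib.Symp.form_single_inr, Pi.single_apply,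
        one_mul]
      simp only [Sum.inl.injEq, eq_comm]
    · rw [h3, CfsgLib.Symp.form_single_inr, Pi.single_apply, if_neg (by simp), mul_zero]
  let vec : D → (Fin m ⊕ Fin m → ZMod 2) := fun a => e (phiVec P hA a)
  have hvec : ∀ a c, CfsgLib.Symp.form (vec a) (vec c) = phi a c := fun a c => by
    rw [← hform, phiForm_phiVec]; rfl
  have hinj : Function.Injective vec := fun a c h => phi_injective P (congrArg Subtype.val (e.injective h))
  refine ⟨m, vec, hinj, fun a h => ?_, fun v hv => ?_, hvec, fun a c => ?_⟩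
  · exact phi_ne_zero P a (congrArg Subtype.val (e.map_eq_zero_iff.mp h))
  · obtain ⟨w, rfl⟩ := e.surjective v
    rcases w.2 with hw | ⟨a, ha⟩
    · exact absurd (by rw [show w = 0 from Subtype.ext hw]; exact e.map_zero) hv
    · exact ⟨a, congrArg e (Subtype.ext ha)⟩
  · rw [CfsgLib.Symp.tv_smul, one_mul, hvec, phi_symm c a]
    by_cases hc : Com a c
    · rw [phi_com hc, zero_smul, add_zero, P.t_of_com hc]
    · rw [phi_far hc, one_smul]
      show e _ = e _ + e _
      rw [← map_add]
      exact congrArg e (Subtype.ext ((parity P hA hc).trans (add_comm _ _)))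

/-- Without affine triangles the group is symplectic over two elements. -/
theorem nonempty_symplectic : ∃ n : ℕ, Nonempty (G ≃* Matrix.symplecticGroup (Fin n) (ZMod 2)) := by
  classical
  obtain ⟨m, vec, hinj, hne, hsurj, -, ht⟩ := exists_coord P hA
  refine ⟨m, ?_⟩
  let pt : D ≃ {v : Fin m ⊕ Fin m → ZMod 2 // v ≠ 0} :=
    Equiv.ofBijective (fun a => ⟨vec a, hne a⟩) ⟨fun a b h => hinj (congrArg Subtype.val h),
      fun v => (hsurj v.1 v.2).imp fun a ha => Subtype.ext ha⟩
  have hmove : ∀ (g : Matrix.symplecticGroup (Fin m) (ZMod 2)) (a : D), g • vec a ≠ 0 := fun g a h =>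
    hne a (smul_eq_zero_iff_eq g |>.mp h)
  let act : Matrix.symplecticGroup (Fin m) (ZMod 2) → D → D := fun g a => pt.symm ⟨g • vec a, hmove g a⟩
  have hact : ∀ g a, vec (act g a) = g • vec a := fun g a =>
    congrArg Subtype.val (pt.apply_symm_apply ⟨g • vec a, hmove g a⟩)
  let ψ : Matrix.symplecticGroup (Fin m) (ZMod 2) →* Equiv.Perm D :=
    { toFun := fun g => ⟨act g, act g⁻¹, fun a => hinj (by rw [hact, hact, inv_smul_smul]),
        fun a => hinj (by rw [hact, hact, smul_inv_smul])⟩
      map_one' := Equiv.ext fun a => hinj ((hact 1 a).trans (one_smul _ _))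
      map_mul' := fun g h => Equiv.ext fun a => hinj (by
        show vec (act (g * h) a) = vec (act g (act h a))
        rw [hact, hact, hact, mul_smul]) }
  have htv : ∀ a : D, ψ (CfsgLib.Symp.tv (vec a) 1) = P.perm a := fun a => Equiv.ext fun c => hinj (by
    show vec (act _ c) = vec (P.t a c)
    rw [hact, ht])
  refine P.nonempty_mulEquiv ψ ((injective_iff_map_eq_one ψ).mpr fun g hg => CfsgLib.Symp.symp_ext fun x => ?_) ?_
    fun a => ⟨_, htv a⟩
  · rw [one_smul]
    by_cases hx : x = 0
    · rw [hx, smul_zero]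
    obtain ⟨a, rfl⟩ := hsurj x hx
    rw [← hact]
    exact congrArg vec (Equiv.congr_fun hg a)
  · rintro _ ⟨g, rfl⟩
    have hg : g ∈ CfsgLib.Symp.tvGroup (⊤ : Submodule (ZMod 2) (Fin m ⊕ Fin m → ZMod 2)) := by
      rw [CfsgLib.Symp.tvGroup_eq_top]; trivial
    induction hg using Subgroup.closure_induction with
    | mem z hz =>
      obtain ⟨w, -, c, rfl⟩ := hz
      rcases (show ∀ c : ZMod 2, c = 0 ∨ c = 1 by decide) c with rfl | rfl
      · rw [CfsgLib.Symp.tv_zero, map_one]; exact one_mem _
      by_cases hw : w = 0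
      · rw [hw, show CfsgLib.Symp.tv (0 : Fin m ⊕ Fin m → ZMod 2) (1 : ZMod 2) = 1 from
          CfsgLib.Symp.symp_ext fun x => by simp [CfsgLib.Symp.tv_smul], map_one]
        exact one_mem _
      obtain ⟨a, rfl⟩ := hsurj w hw
      exact ⟨a, (htv a).symm⟩
    | one => rw [map_one]; exact one_mem _
    | mul p q _ _ hp hq => rw [map_mul]; exact mul_mem hp hq
    | inv p _ hp => rw [map_inv]; exact inv_mem hp

end CfsgLib.ThreeT.Tv
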