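import Cfsg.Agent.Spor3T.Tv.Five
import Cfsg.Agent.Spor3T.Tv.Symp

/-!
Maximal frames: no member commutes with a whole frame, and such a frame has at least four indices.
-/

set_option autoImplicit false
set_option linter.unusedSectionVars false

namespace CfsgLib.ThreeT.Tv

universe u v

variable {G : Type u} [Group G] {D : Set G} {P : Pol D} {ι : Type v}

/-- A member commutes with the whole frame. -/
def Frame.Phi (F : Frame P ι) (d : D) : Prop := ∀ i j, i ≠ j → F.All d i j

theorem Frame.card_le [Finite ι] (F : Frame P ι) : Nat.card ι ≤ Nat.card D + 1 := by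
  classical
  haveI := P.finD
  rcases isEmpty_or_nonempty ι with h | ⟨⟨o⟩⟩
  · simp
  let g : ι → Option D := fun k => if k = o then none else some (F.p o k 0)
  have hg : Function.Injective g := by
    intro k l h
    by_cases hk : k = o <;> by_cases hl : l = o <;> simp only [g, hk, hl, if_true, if_false] at h ⊢
    · exact absurd h (by simp)
    · exact absurd h (by simp)
    · by_contra hne
      exact F.not_com_adj (Ne.symm hk) (Ne.symm hl) hne 0 0 (by rw [Option.some.inj h])
  exact (Nat.card_le_card_of_injective g hg).trans Finite.card_option.le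

section max

variable [Finite ι] (F : Frame P ι) {n : ℕ} (hn : Nat.card ι = n) (h3 : 3 ≤ n)
  (hmax : IsEmpty (Frame P (Fin (n + 1))))
include hn h3

theorem exists_third_index (x y : ι) : ∃ z, z ≠ x ∧ z ≠ y := by
  classical
  haveI := Fintype.ofFinite ι
  by_contra h
  push Not at h
  have hsub : (Finset.univ : Finset ι) ⊆ {x, y} := fun z _ => by
    rcases eq_or_ne z x with e | e
    · simp [e]
    · simp [h z e]
  have := (Finset.card_le_card hsub).trans Finset.card_le_two
  rw [Finset.card_univ, ← Nat.card_eq_fintype_card, hn] at this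
  omega

include hmax

theorem Frame.not_isOut (f : D) (i : ι) : ¬ F.IsOut f i := by
  classical
  intro hf
  obtain ⟨j₀, hj₀, -⟩ := exists_third_index hn h3 i i
  obtain ⟨F', -, -⟩ := F.extend hf hj₀ (exists_third_index hn h3)
  have e : Nat.card (Option ι) = n + 1 := by rw [Finite.card_option, hn]
  exact hmax.false (F'.restrict (Finite.equivFinOfCardEq e).symm (Equiv.injective _))

/-- Three classes, one of them a pair, are impossible. -/
theorem Frame.excl_three {d : D} {i j k l : ι} (q : Four i j k l) (h12 : F.All d i j) (h34 : F.None d k l)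
    (h13 : F.None d i k) (h14 : F.None d i l) : False := by
  classical
  haveI := P.finD
  set x := F.p i j 0 with hx
  have cdx : Com d x := h12 0
  have hdx : d ≠ x := fun e => (F.same q.ij (show (1 : ZMod 3) ≠ 0 by decide)).1 (hx ▸ e ▸ (h12 1).symm)
  have hw : ∀ (m : ι), i ≠ m → F.None d i m → j ≠ m → ∀ c, ∃ w ∈ Ln d x, w ≠ d ∧ w ≠ x ∧ Com w (F.p i m c) := by
    intro m him hnone hjm c
    obtain ⟨w, hw, hcw⟩ := P.one hdx cdx (F.p i m c)
    refine ⟨w, hw, fun e => hnone c (e ▸ hcw.symm), fun e => ?_, hcw.symm⟩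
    exact F.not_com_adj q.ij him hjm 0 c (e ▸ hcw).symm
  have hone : ∀ w ∈ Ln d x, w ≠ d → F.One w i j 0 := fun w hw hwd b => by
    refine ⟨fun h => by_contra fun hb => hwd ?_, fun h => h ▸ P.com_of_mem hdx cdx hw (right_mem_Ln _ _)⟩
    exact P.unique hdx cdx hw (left_mem_Ln _ _) h.symm (h12 b).symm (right_mem_Ln _ _) (F.same q.ij hb).1
  obtain ⟨w0, hw0, hw0d, hw0x, hw0c⟩ := hw k q.ik h13 q.jk 0
  choose v hv hvd hvx hvc using hw l q.il h14 q.jl
  have hvinj : Function.Injective v := by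
    intro a b e
    by_contra hab
    refine (hone _ (hv a) (hvd a)).swap q.ij |>.not_all_adj q.ij.symm q.il q.jl ?_
    exact Frame.all_of_two q.il hab (hvc a) (e ▸ hvc b)
  obtain ⟨c, hc⟩ : ∃ c, v c = w0 := by
    by_contra hne
    push Not at hne
    have hsub : insert d (insert x (insert w0 (Set.range v))) ⊆ Ln d x := by
      rintro w (rfl | rfl | rfl | ⟨c, rfl⟩)
      exacts [left_mem_Ln _ _, right_mem_Ln _ _, hw0, hv c]
    have h := Set.ncard_le_ncard hsub
    rw [F.five q hdx cdx, Set.ncard_insert_of_notMem, Set.ncard_insert_of_notMem, Set.ncard_insert_of_notMem,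
      Set.ncard_range_of_injective hvinj] at h
    · simp at h
    · rintro ⟨c, hc⟩; exact hne c hc
    · rintro (h | ⟨c, hc⟩)
      exacts [hw0x h.symm, hvx c hc]
    · rintro (h | h | ⟨c, hc⟩)
      exacts [hdx h, hw0d h.symm, hvd c hc]
  have hw34 : Com w0 (F.p k l c) := by
    have h1 : Com w0 (F.p i l c) := hc ▸ hvc c
    have h2 := Frame.com_left (b := c) q.ik q.kl q.il hw0c
    rw [zero_add] at h2
    exact h2.mp h1
  exact h34 c (P.all_of_two hdx cdx hw0 (right_mem_Ln _ _) hw0x hw34.symm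
    (F.disj c 0 q.kl q.ij q.ik.symm q.jk.symm q.il.symm q.jl.symm) (left_mem_Ln _ _)).symm

/-- Two classes with at least two indices each are impossible. -/
theorem Frame.excl_two {d : D} {i j k l : ι} (q : Four i j k l) (h12 : F.All d i j) (h34 : F.All d k l)
    (h13 : F.None d i k) : False := by
  classical
  set x := F.p i j 0 with hx
  have cdx : Com d x := h12 0
  have hdx : d ≠ x := fun e => (F.same q.ij (show (1 : ZMod 3) ≠ 0 by decide)).1 (hx ▸ e ▸ (h12 1).symm)
  obtain ⟨w, hw, hcw⟩ := P.one hdx cdx (F.p i k 0)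
  have hwd : w ≠ d := fun e => h13 0 (e ▸ hcw.symm)
  have hwone : F.One w i j 0 := fun b => by
    refine ⟨fun h => by_contra fun hb => hwd ?_, fun h => h ▸ P.com_of_mem hdx cdx hw (right_mem_Ln _ _)⟩
    exact P.unique hdx cdx hw (left_mem_Ln _ _) h.symm (h12 b).symm (right_mem_Ln _ _) (F.same q.ij hb).1
  have hall : F.All w k l := fun a =>
    (hw _ (h34 a).symm (F.disj a 0 q.kl q.ij q.ik.symm q.jk.symm q.il.symm q.jl.symm)).symm
  have h2 : F.All w k i := ((hall.swap q.kl).spread q.kl.symm q.ik.symm q.il.symm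
    (Frame.com_swap q.ik |>.mpr (by rw [neg_zero]; exact hcw.symm))).2
  exact (hwone.swap q.ij).not_all_adj q.ij.symm q.ik q.jk (h2.swap q.ik.symm)

/-- A member with an all-commuting pair and no single one commutes with the frame. -/
theorem Frame.phi_of {d : D} {i j : ι} (hij : i ≠ j) (h : F.All d i j)
    (hno : ∀ k l, k ≠ l → ∀ a, ¬ F.One d k l a) : F.Phi d := by
  have hor : ∀ k l, k ≠ l → F.All d k l ∨ F.None d k l := fun k l hkl =>
    (F.cases3 d hkl).imp_right fun h' => h'.resolve_left fun ⟨a, ha⟩ => hno k l hkl a ha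
  have hcover : (∀ k, k ≠ i → F.All d i k) → F.Phi d := by
    intro hk k l hkl
    by_cases ek : k = i
    · subst ek; exact hk l hkl.symm
    by_cases el : l = i
    · subst el; exact (hk k ek).swap (Ne.symm ek)
    exact ((hk k ek).swap (Ne.symm ek)).trans ek (Ne.symm el) hkl (hk l el)
  by_contra hphi
  obtain ⟨k, hki, hnk⟩ : ∃ k, k ≠ i ∧ ¬ F.All d i k := by
    by_contra hc
    push Not at hc
    exact hphi (hcover hc)
  have hN := (hor i k (Ne.symm hki)).resolve_left hnk
  have hjk : j ≠ k := fun e => hnk (e ▸ h)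
  have hall : ∀ l, l ≠ i → l ≠ k → F.All d i l := by
    intro l hli hlk
    refine (hor i l (Ne.symm hli)).resolve_right fun hN' => ?_
    have hjl : j ≠ l := fun e => absurd (hN' 0) (not_not.mpr (e ▸ h 0))
    have q : Four i j k l := ⟨hij, Ne.symm hki, Ne.symm hli, hjk, hjl, Ne.symm hlk⟩
    rcases hor k l (Ne.symm hlk) with h' | h'
    · exact F.excl_two hn h3 hmax q h h' hN
    · exact F.excl_three hn h3 hmax q h h' hN hN'
  refine F.not_isOut hn h3 hmax d k ⟨fun u v a huv huk hvk => ?_, fun u a huk hc => ?_⟩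
  · by_cases eu : u = i
    · subst eu; exact hall v huv.symm hvk a
    by_cases ev : v = i
    · subst ev; exact (hall u eu huk).swap (Ne.symm eu) a
    exact ((hall u eu huk).swap (Ne.symm eu)).trans eu (Ne.symm ev) huv (hall v ev hvk) a
  · by_cases eu : u = i
    · subst eu
      exact hN.swap (Ne.symm hki) a hc
    · have h1 : Com d (F.p u k (-a)) := Frame.com_swap huk.symm |>.mpr (by rw [neg_neg]; exact hc)
      exact hnk ((hall u eu huk).spread (Ne.symm eu) huk (Ne.symm hki) h1).1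

omit hn h3 hmax in
/-- One step towards a member with more all-commuting pairs. -/
theorem Frame.reduce {d : D} {i j : ι} {a : ZMod 3} (hij : i ≠ j) (h : F.One d i j a) (hne : d ≠ F.p i j a) :
    ∃ s ∈ Ln (F.p i j a) d, s ≠ F.p i j a ∧ Com s (F.p i j (a + 1)) ∧ F.All s i j ∧
      {p : ι × ι | p.1 ≠ p.2 ∧ ¬ F.All s p.1 p.2}.ncard < {p : ι × ι | p.1 ≠ p.2 ∧ ¬ F.All d p.1 p.2}.ncard := by
  set p := F.p i j a
  have hpd : Com p d := h.com.symm
  obtain ⟨s, hs, hcs⟩ := P.one (Ne.symm hne) hpd (F.p i j (a + 1))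
  have hab : a + 1 ≠ a := by simp
  have hsp : s ≠ p := fun e => (F.same hij hab).1 (by rw [e] at hcs; exact hcs)
  have hall : F.All s i j := Frame.all_of_two hij hab hcs.symm (P.com_of_mem (Ne.symm hne) hpd hs (left_mem_Ln _ _))
  have hkeep : ∀ k l, k ≠ l → F.All d k l → F.All s k l := by
    intro k l hkl hkd b
    by_cases eik : i = k
    · subst eik
      by_cases ejl : j = l
      · subst ejl; exact absurd hkd h.not_all
      exact absurd hkd ((h.swap hij).not_all_adj hij.symm hkl ejl)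
    by_cases eil : i = l
    · subst eil
      by_cases ejk : j = k
      · subst ejk; exact absurd (hkd.swap hkl) h.not_all
      exact absurd (hkd.swap hkl) ((h.swap hij).not_all_adj hij.symm hkl.symm ejk)
    by_cases ejk : j = k
    · subst ejk; exact absurd hkd (h.not_all_adj hij hkl eil)
    by_cases ejl : j = l
    · subst ejl; exact absurd (hkd.swap hkl) (h.not_all_adj hij hkl.symm eik)
    exact (hs _ (F.disj b a hkl hij (Ne.symm eik) (Ne.symm ejk) (Ne.symm eil) (Ne.symm ejl)) (hkd b).symm).symm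
  refine ⟨s, hs, hsp, hcs.symm, hall, Set.ncard_lt_ncard ⟨fun q hq => ⟨hq.1, fun hd => hq.2 (hkeep _ _ hq.1 hd)⟩, ?_⟩⟩
  intro hsub
  exact (hsub (show (i, j) ∈ {p : ι × ι | p.1 ≠ p.2 ∧ ¬ F.All d p.1 p.2} from ⟨hij, h.not_all⟩)).2 hall

/-- Repeated steps end at a member commuting with the frame. -/
theorem Frame.exists_phi (Q : D → Prop) (hQ : ∀ d, Q d → ∃ i j a, i ≠ j ∧ Com d (F.p i j a))
    (hne : ∀ d, Q d → ∀ i j a, i ≠ j → F.One d i j a → d ≠ F.p i j a)
    (hstep : ∀ d, Q d → ∀ i j a, i ≠ j → F.One d i j a → ∀ s ∈ Ln (F.p i j a) d, s ≠ F.p i j a → F.All s i j → Q s)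
    {d : D} (hd : Q d) : ∃ g, Q g ∧ F.Phi g := by
  induction hN : {p : ι × ι | p.1 ≠ p.2 ∧ ¬ F.All d p.1 p.2}.ncard using Nat.strong_induction_on generalizing d with
  | _ N ih =>
    by_cases hone : ∃ i j a, i ≠ j ∧ F.One d i j a
    · obtain ⟨i, j, a, hij, h⟩ := hone
      obtain ⟨s, hs, hsp, -, hall, hlt⟩ := F.reduce hij h (hne d hd i j a hij h)
      exact ih _ (hN ▸ hlt) (hstep d hd i j a hij h s hs hsp hall) rfl
    · obtain ⟨i, j, a, hij, hc⟩ := hQ d hd
      refine ⟨d, hd, F.phi_of hn h3 hmax hij ?_ fun k l hkl b hb => hone ⟨k, l, b, hkl, hb⟩⟩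
      rcases F.cases3 d hij with h | ⟨b, h⟩ | h
      · exact h
      · exact absurd ⟨i, j, b, hij, h⟩ hone
      · exact absurd hc (h a)

end max

/-- No member commutes with a maximal frame. -/
theorem Frame.not_phi [Finite ι] (F : Frame P ι) {n : ℕ} (hn : Nat.card ι = n) (h3 : 3 ≤ n)
    (hmax : IsEmpty (Frame P (Fin (n + 1)))) (d : D) : ¬ F.Phi d := by
  classical
  intro hd
  obtain ⟨i₀, i₁, h01⟩ : ∃ i₀ i₁ : ι, i₀ ≠ i₁ := by
    obtain ⟨o⟩ : Nonempty ι := (Nat.card_pos_iff.mp (by omega)).1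
    obtain ⟨z, hz, -⟩ := exists_third_index hn h3 o o
    exact ⟨z, o, hz⟩
  obtain ⟨i₂, h20, h21⟩ := exists_third_index hn h3 i₀ i₁
  set x := F.p i₀ i₁ 0 with hx
  have cdx : Com d x := hd i₀ i₁ h01 0
  have hdx : d ≠ x := fun e => (F.same h01 (show (1 : ZMod 3) ≠ 0 by decide)).1 (hx ▸ e ▸ (hd i₀ i₁ h01 1).symm)
  obtain ⟨f, hfx, hfd⟩ := P.res x d (Ne.symm hdx) cdx.symm
  obtain ⟨g, ⟨hgd, -⟩, hg⟩ := F.exists_phi hn h3 hmax
    (fun s => ¬ Com s d ∧ ∃ i j a, i ≠ j ∧ Com s (F.p i j a)) (fun s hs => hs.2)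
    (fun s hs i j a hij _ e => hs.1 (by rw [e]; exact (hd i j hij a).symm))
    (fun s hs i j a hij h t ht htp hall => ⟨fun hc => hs.1
      ((P.all_of_two (fun e => hs.1 (by rw [← e]; exact (hd i j hij a).symm)) h.com.symm (left_mem_Ln _ _) ht (Ne.symm htp)
        (hd i j hij a) hc.symm (right_mem_Ln _ _)).symm), i, j, 0, hij, hall 0⟩)
    ⟨hfd, i₀, i₁, 0, h01, hfx⟩
  obtain ⟨b, hb, hbd, hbx⟩ := P.three d x hdx cdx
  have hkl : ∀ k l a, k ≠ l → k ≠ i₀ → k ≠ i₁ → l ≠ i₀ → l ≠ i₁ → Com b (F.p k l a) := fun k l a hkl h1 h2 h3 h4 =>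
    (hb _ (hd k l hkl a).symm (F.disj a 0 hkl h01 h1 h2 h3 h4)).symm
  have hfar : ∀ k a, k ≠ i₀ → k ≠ i₁ → ¬ Com b (F.p i₁ k a) := fun k a hk0 hk1 hc => by
    have h1 : Com (F.p i₁ k a) x := P.all_of_two hdx cdx (left_mem_Ln _ _) hb (Ne.symm hbd)
      (hd i₁ k (Ne.symm hk1) a).symm hc.symm (right_mem_Ln _ _)
    rw [hx, ← F.symm 0 h01] at h1
    exact F.not_com_adj h01.symm (Ne.symm hk1) (Ne.symm hk0) (-0) a h1.symm
  suffices hgb : Com g b from
    hgd (P.all_of_two hdx cdx hb (right_mem_Ln _ _) hbx hgb (hg i₀ i₁ h01 0) (left_mem_Ln _ _))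
  by_cases hn3 : n = 3
  · -- the subframe is a single line
    have hsame := F.same h21.symm (show (0 : ZMod 3) ≠ 1 by decide)
    obtain ⟨F', e0, e1, -, e3⟩ := exists_frame_three hsame.1 (hfar i₂ 0 h20 h21) (hfar i₂ 1 h20 h21)
      (by rw [hsame.2]; exact hfar i₂ _ h20 h21)
    have hall : F'.All g 0 1 := Frame.all_of_two (show (0 : ZMod 3) ≠ 1 by decide) (show (0 : ZMod 3) ≠ 1 by decide)
      (e0 ▸ hg i₁ i₂ h21.symm 0) (e1 ▸ hg i₁ i₂ h21.symm 1)
    have hphi : F'.Phi g := F'.phi_of (n := n) (by rw [Nat.card_zmod, hn3]) h3 hmax (by decide) hall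
      fun k l hkl a h => by
        rcases (show ∀ k l : ZMod 3, k ≠ l → (k = 0 ∧ l = 1) ∨ (k = 1 ∧ l = 0) ∨ (l = 0 ∧ k = 2) ∨ (l = 1 ∧ k = 2) ∨
          (k = 0 ∧ l = 2) ∨ (k = 1 ∧ l = 2) by decide) k l hkl with ⟨rfl, rfl⟩ | ⟨rfl, rfl⟩ | ⟨rfl, rfl⟩ |
            ⟨rfl, rfl⟩ | ⟨rfl, rfl⟩ | ⟨rfl, rfl⟩
        · exact h.not_all hall
        · exact h.not_all (hall.swap (by decide))
        · exact h.not_all_adj (by decide) (by decide) (by decide) hall
        · exact h.not_all_adj (by decide) (by decide) (by decide) (hall.swap (by decide))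
        · exact (h.swap (by decide)).not_all_adj (by decide) (by decide) (by decide) hall
        · exact (h.swap (by decide)).not_all_adj (by decide) (by decide) (by decide) (hall.swap (by decide))
    exact e3 ▸ hphi 1 2 (by decide) 0
  · haveI := Fintype.ofFinite ι
    let κ := {i : ι // i ≠ i₀}
    have hκ : Nat.card κ = n - 1 := by
      rw [Nat.card_eq_fintype_card, Fintype.card_subtype_compl, Fintype.card_subtype_eq, ← Nat.card_eq_fintype_card,
        hn]
    let Fs : Frame P κ := F.restrict Subtype.val Subtype.val_injective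
    have hout : Fs.IsOut b ⟨i₁, h01.symm⟩ :=
      ⟨fun k l a hkl' hk hl => hkl k l a (fun e => hkl' (Subtype.ext e)) k.2 (fun e => hk (Subtype.ext e)) l.2
        fun e => hl (Subtype.ext e),
        fun k a hk => hfar k a k.2 fun e => hk (Subtype.ext e)⟩
    have hcard3 : 3 ≤ n - 1 := by omega
    obtain ⟨F', hF', hcol⟩ := Fs.extend hout (j₀ := ⟨i₂, h20⟩) (fun e => h21 (congrArg Subtype.val e))
      (exists_third_index hκ hcard3)
    have hnF' : Nat.card (Option κ) = n := by rw [Finite.card_option, hκ]; omega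
    have hsome : ∀ k l : κ, k ≠ l → F'.All g (some k) (some l) := fun k l hkl' a => by
      rw [hF']; exact hg k l (fun e => hkl' (Subtype.ext e)) a
    have hne12 : (⟨i₁, h01.symm⟩ : κ) ≠ ⟨i₂, h20⟩ := fun e => h21 (congrArg Subtype.val e).symm
    have hphi : F'.Phi g := F'.phi_of hnF' h3 hmax (i := some ⟨i₁, h01.symm⟩) (j := some ⟨i₂, h20⟩)
      (fun e => hne12 (Option.some.inj e)) (hsome _ _ hne12) fun k l hkl' a h => by
        rcases k with _ | k <;> rcases l with _ | l
        · exact hkl' rfl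
        · obtain ⟨m, hm, -⟩ := exists_third_index hκ hcard3 l l
          exact h.not_all_adj (by simp) (by simpa using hm.symm) (by simp) (hsome l m hm.symm)
        · obtain ⟨m, hm, -⟩ := exists_third_index hκ hcard3 k k
          exact (h.swap (by simp)).not_all_adj (by simp) (by simpa using hm.symm) (by simp) (hsome k m hm.symm)
        · exact h.not_all (hsome k l fun e => hkl' (congrArg some e))
    have h1 := hphi (some ⟨i₂, h20⟩) none (by simp) 0
    rw [hcol _ _ hne12.symm] at h1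
    have h2 : Com g (Fs.p ⟨i₂, h20⟩ ⟨i₁, h01.symm⟩ 0) := hg i₂ i₁ h21 0
    have hnb : ¬ Com b (Fs.p ⟨i₂, h20⟩ ⟨i₁, h01.symm⟩ 0) := by
      show ¬ Com b (F.p i₂ i₁ 0)
      rw [← F.symm 0 h21, neg_zero]; exact hfar i₂ 0 h20 h21
    rw [P.t_symm hnb, P.com_t_iff h2] at h1
    exact h1

/-- With an affine triangle there is a maximal frame on at least four indices. -/
theorem exists_maximal_frame (hA : ¬ NoTriangle P) :
    ∃ n, 4 ≤ n ∧ Nonempty (Frame P (Fin n)) ∧ IsEmpty (Frame P (Fin (n + 1))) := by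
  classical
  haveI := P.finD
  unfold NoTriangle at hA
  push Not at hA
  obtain ⟨x, y, u, hxy, h1, h2, h3⟩ := hA
  obtain ⟨F₀, -⟩ := exists_frame_three hxy h1 h2 h3
  let Q : ℕ → Prop := fun n => Nonempty (Frame P (Fin n))
  have h30 : Q 3 := ⟨F₀.restrict (fun i : Fin 3 => (i : ZMod 3)) (fun _ _ e => e)⟩
  have hb : ∀ n, Q n → n ≤ Nat.card D + 1 := fun n ⟨F⟩ => by simpa using F.card_le
  set n := Nat.findGreatest Q (Nat.card D + 1)
  have hn3 : 3 ≤ n := Nat.le_findGreatest (hb 3 h30) h30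
  obtain ⟨F⟩ : Q n := Nat.findGreatest_spec (hb 3 h30) h30
  have hmax : IsEmpty (Frame P (Fin (n + 1))) := ⟨fun F' => by
    have := Nat.le_findGreatest (P := Q) (hb _ ⟨F'⟩) ⟨F'⟩
    change n + 1 ≤ n at this
    omega⟩
  refine ⟨n, ?_, ⟨F⟩, hmax⟩
  by_contra hlt
  have he : n = 3 := by omega
  have hn : Nat.card (Fin n) = n := Nat.card_fin n
  -- commuting frame members coincide
  have hfr : ∀ i j k l : Fin n, i ≠ j → k ≠ l → ∀ a c, Com (F.p i j a) (F.p k l c) → F.p i j a = F.p k l c := by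
    intro i j k l hij hkl a c hc
    by_cases eik : i = k
    · subst eik
      by_cases ejl : j = l
      · subst ejl
        by_contra hne
        exact (F.same hij fun e => hne (by rw [e])).1 hc
      exact absurd hc (F.not_com_adj hij hkl ejl a c)
    by_cases eil : i = l
    · subst eil
      rw [← F.symm c hkl] at hc ⊢
      by_cases ejk : j = k
      · subst ejk
        by_contra hne
        exact (F.same hij fun e => hne (by rw [e])).1 hc
      exact absurd hc (F.not_com_adj hij hkl.symm ejk a (-c))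
    rw [← F.symm a hij] at hc ⊢
    by_cases ejk : j = k
    · subst ejk
      exact absurd hc (F.not_com_adj hij.symm hkl eil (-a) c)
    by_cases ejl : j = l
    · subst ejl
      rw [← F.symm c hkl] at hc
      exact absurd hc (F.not_com_adj hij.symm hkl.symm eik (-a) (-c))
    exfalso
    have h4 : ({i, j, k, l} : Finset (Fin n)).card ≤ n := (Finset.card_le_univ _).trans_eq (Fintype.card_fin n)
    rw [Finset.card_insert_of_notMem (by simp [hij, eik, eil]), Finset.card_insert_of_notMem (by simp [ejk, ejl]),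
      Finset.card_pair hkl] at h4
    omega
  obtain ⟨i₀, i₁, h01⟩ : ∃ i₀ i₁ : Fin n, i₀ ≠ i₁ := ⟨⟨0, by omega⟩, ⟨1, by omega⟩, by simp⟩
  obtain ⟨a, hax, cxa⟩ := P.ex_other (F.p i₀ i₁ 0)
  obtain ⟨g, -, hg⟩ := F.exists_phi hn hn3 hmax
    (fun d => (∀ i j c, i ≠ j → d ≠ F.p i j c) ∧ ∃ i j c, i ≠ j ∧ Com d (F.p i j c))
    (fun d hd => hd.2) (fun d hd i j c hij _ => hd.1 i j c hij)
    (fun d _ i j c hij _ s _ _ hall => ⟨fun k l e hkl hs => (F.same hij (show (0 : ZMod 3) ≠ 1 by decide)).1 (by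
        rw [← hfr k l i j hkl hij e 0 (hs ▸ hall 0), ← hfr k l i j hkl hij e 1 (hs ▸ hall 1)]),
      i, j, 0, hij, hall 0⟩)
    (d := a) ⟨fun i j c hij e => hax (e.trans (hfr i j i₀ i₁ hij h01 c 0 (e ▸ cxa.symm))), i₀, i₁, 0, h01, cxa.symm⟩
  exact F.not_phi hn hn3 hmax g hg

end CfsgLib.ThreeT.Tv
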