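import Cfsg.Agent.Spor3T.Twins
import Cfsg.Agent.Spor3T.Structure

/-!
Classes of 3-transpositions whose local groups have a non-central 2-core: lines of commuting pairs and the polar
property (a member commutes with one or with all members of such a line).
-/

set_option autoImplicit false
set_option linter.unusedSectionVars false

namespace CfsgLib.ThreeT.Tv

universe u

variable {G : Type u} [Group G] {D : Set G}

/-- Commuting members. -/
abbrev Com (a b : D) : Prop := Commute (a : G) b

/-- The line of two commuting members: the members commuting with all their common neighbours. -/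
def Ln (a b : D) : Set D := {z | ∀ w : D, Com w a → Com w b → Com w z}

theorem left_mem_Ln (a b : D) : a ∈ Ln a b := fun _ h _ => h

theorem right_mem_Ln (a b : D) : b ∈ Ln a b := fun _ _ h => h

/-- The hypotheses of the transvection case, before the polar property. -/
structure Pol (D : Set G) : Prop where
  cls : Cfsg.IsThreeTranspositionClass D
  finD : Finite D
  center : Subgroup.center G = ⊥
  ex_other : ∀ a : D, ∃ b, b ≠ a ∧ Com a b
  ex_far : ∀ a : D, ∃ c, ¬ Com a c
  twins : ∀ a b : D, (∀ f, Com a f ↔ Com b f) → a = b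
  size : ∀ a b c d : D, a ≠ b → Com a b → c ≠ d → Com c d → (Ln a b).ncard = (Ln c d).ncard
  three : ∀ a b : D, a ≠ b → Com a b → ∃ c ∈ Ln a b, c ≠ a ∧ c ≠ b
  two : ∀ a b z z' : D, a ≠ b → Com a b → z ∈ Ln a b → z' ∈ Ln a b → z ≠ z' →
    Com z z' ∧ ∀ d : D, Com d z → Com d z' → Com d a ∧ Com d b
  res : ∀ a c : D, a ≠ c → Com a c → ∃ b : D, Com b a ∧ ¬ Com b c
  shift : ∀ y a b c c' : D, a ≠ y → Com a y → b ∈ Ln y a → b ≠ y → c ≠ y → Com c y →
    (c' : G) = a * b * c * ((a : G) * b)⁻¹ → c' ∈ Ln y c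

/-! ### Conjugation -/

variable (P : Pol D)
include P

/-- Conjugation of members. -/
def Pol.cj (g : G) (a : D) : D := ⟨g * a * g⁻¹, conj_mem P.cls a.2 g⟩

/-- Conjugation of one member by another; the third point if they do not commute. -/
abbrev Pol.t (a b : D) : D := P.cj (a : G) b

omit P in
theorem Com.symm {a b : D} (h : Com a b) : Com b a := Commute.symm h

theorem Pol.coe_cj (g : G) (a : D) : (P.cj g a : G) = g * a * g⁻¹ := rfl

theorem Pol.cj_mul (g h : G) (a : D) : P.cj (g * h) a = P.cj g (P.cj h a) :=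
  Subtype.ext (by simp only [Pol.coe_cj]; group)

theorem Pol.cj_one (a : D) : P.cj 1 a = a := Subtype.ext (by simp [Pol.coe_cj])

theorem Pol.cj_inj {g : G} {a b : D} : P.cj g a = P.cj g b ↔ a = b :=
  ⟨fun e => Subtype.ext (mul_left_cancel (mul_right_cancel (congrArg Subtype.val e))), fun e => e ▸ rfl⟩

theorem Pol.com_cj (g : G) (a b : D) : Com (P.cj g a) (P.cj g b) ↔ Com a b := commute_conj_iff g _ _

theorem Pol.cj_eq_self {g : G} {a : D} : P.cj g a = a ↔ Commute g (a : G) := by
  rw [← Subtype.coe_inj, Pol.coe_cj, mul_inv_eq_iff_eq_mul]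
  exact Iff.rfl

theorem Pol.cj_cj (g : G) (a b : D) : P.cj g (P.t a b) = P.t (P.cj g a) (P.cj g b) :=
  Subtype.ext (by simp only [Pol.coe_cj]; group)

theorem Pol.sq' (a : D) : (a : G) * a = 1 := sq P.cls.1 a.2

theorem Pol.inv' (a : D) : (a : G)⁻¹ = a := inv P.cls.1 a.2

theorem Pol.cj_inv_cj (g : G) (a : D) : P.cj g (P.cj g⁻¹ a) = a := by
  rw [← P.cj_mul, mul_inv_cancel, P.cj_one]

theorem Pol.t_of_com {a b : D} (h : Com a b) : P.t a b = b := P.cj_eq_self.mpr h

theorem Pol.t_self (a : D) : P.t a a = a := P.t_of_com (Commute.refl _)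

theorem Pol.t_eq_self {a b : D} : P.t a b = b ↔ Com a b := P.cj_eq_self

theorem Pol.t_t (a b : D) : P.t a (P.t a b) = b := by
  rw [Pol.t, Pol.t, ← P.cj_mul, P.sq', P.cj_one]

theorem Pol.t_symm {a b : D} (h : ¬ Com a b) : P.t a b = P.t b a := Subtype.ext (by
  rw [Pol.coe_cj, Pol.coe_cj, P.inv', P.inv', braid P.cls.1 a.2 b.2 h])

theorem Pol.com_t_iff {a b d : D} (h : Com d a) : Com d (P.t a b) ↔ Com d b := by
  conv_lhs => rw [← P.t_of_com (a := a) (b := d) h.symm]
  exact P.com_cj _ _ _

theorem Pol.com_t_iff' {a b d : D} (hab : ¬ Com a b) (h : Com d b) : Com d (P.t a b) ↔ Com d a := by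
  rw [P.t_symm hab]; exact P.com_t_iff h

theorem Pol.not_com_t {a b : D} (h : ¬ Com a b) : ¬ Com a (P.t a b) :=
  fun hc => h ((P.com_t_iff (Commute.refl _)).mp hc)

theorem Pol.not_com_t' {a b : D} (h : ¬ Com a b) : ¬ Com b (P.t a b) := by
  rw [P.t_symm h]; exact P.not_com_t fun hc => h hc.symm

theorem Pol.t_eq_of_t {a b c : D} (h : P.t a b = c) : P.t a c = b := by rw [← h, P.t_t]

/-- The third point of a line of three mutually non-commuting members is symmetric in the three. -/
theorem Pol.t_rot {a b c : D} (hab : ¬ Com a b) (h : P.t a b = c) :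
    ¬ Com a c ∧ ¬ Com b c ∧ P.t b a = c ∧ P.t a c = b ∧ P.t c a = b ∧ P.t b c = a ∧ P.t c b = a := by
  have h1 : ¬ Com a c := h ▸ P.not_com_t hab
  have h2 : ¬ Com b c := h ▸ P.not_com_t' hab
  have e : P.t b a = c := (P.t_symm hab).symm.trans h
  refine ⟨h1, h2, e, P.t_eq_of_t h, ?_, P.t_eq_of_t e, ?_⟩
  · rw [← P.t_symm h1]; exact P.t_eq_of_t h
  · rw [← P.t_symm h2]; exact P.t_eq_of_t e

/-! ### Lines -/

theorem Pol.com_of_mem {a b z z' : D} (hne : a ≠ b) (hab : Com a b) (hz : z ∈ Ln a b) (hz' : z' ∈ Ln a b) :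
    Com z z' := by
  by_cases e : z = z'
  · rw [e]
  · exact (P.two a b z z' hne hab hz hz' e).1

/-- Two points of a line determine it. -/
theorem Pol.Ln_eq {a b z z' : D} (hne : a ≠ b) (hab : Com a b) (hz : z ∈ Ln a b) (hz' : z' ∈ Ln a b)
    (e : z ≠ z') : Ln z z' = Ln a b := by
  ext w
  exact ⟨fun hw d ha hb => hw d (hz d ha hb) (hz' d ha hb),
    fun hw d h1 h2 => hw d ((P.two a b z z' hne hab hz hz' e).2 d h1 h2).1
      ((P.two a b z z' hne hab hz hz' e).2 d h1 h2).2⟩

/-- Commuting with two points of a line is commuting with all of them. -/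
theorem Pol.all_of_two {a b z z' d w : D} (hne : a ≠ b) (hab : Com a b) (hz : z ∈ Ln a b) (hz' : z' ∈ Ln a b)
    (e : z ≠ z') (h : Com d z) (h' : Com d z') (hw : w ∈ Ln a b) : Com d w :=
  hw d ((P.two a b z z' hne hab hz hz' e).2 d h h').1 ((P.two a b z z' hne hab hz hz' e).2 d h h').2

theorem Pol.cj_Ln (g : G) {a b z : D} (hz : z ∈ Ln a b) : P.cj g z ∈ Ln (P.cj g a) (P.cj g b) := by
  intro w h1 h2
  have h := hz (P.cj g⁻¹ w)
  have key : ∀ u : D, Com (P.cj g⁻¹ w) u ↔ Com w (P.cj g u) := fun u => by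
    conv_rhs => rw [← P.cj_inv_cj g w]
    exact (P.com_cj g _ _).symm
  rw [key, key, key] at h
  exact h h1 h2

/-- Two lines through one point and not orthogonal meet only there. -/
theorem Pol.cross {y x c : D} (hne : y ≠ x) (hyx : Com y x) (hcy : Com c y) (hcx : ¬ Com c x) {m l : D}
    (hm : m ∈ Ln y c) (hmy : m ≠ y) (hl : l ∈ Ln y x) (hly : l ≠ y) : ¬ Com m l := by
  intro hml
  have hcne : c ≠ y := fun e => hcx (e ▸ hyx)
  have h1 : Com m x := P.all_of_two hne hyx (left_mem_Ln y x) hl (Ne.symm hly)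
    (P.com_of_mem (Ne.symm hcne) hcy.symm hm (left_mem_Ln y c)) hml (right_mem_Ln y x)
  exact hcx (P.all_of_two (Ne.symm hcne) hcy.symm hm (left_mem_Ln y c) hmy h1.symm hyx.symm
    (right_mem_Ln y c)).symm

/-! ### The polar property -/

omit P in
/-- A fixed-point-free involution lives on an even number of points. -/
theorem even_ncard_of_invol {α : Type*} [Finite α] {S : Set α} (f : α → α) (hS : ∀ a ∈ S, f a ∈ S)
    (hne : ∀ a ∈ S, f a ≠ a) (hinv : ∀ a ∈ S, f (f a) = a) : Even S.ncard := by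
  classical
  haveI := Fintype.ofFinite α
  have h : ∑ _a ∈ S.toFinset, (1 : ZMod 2) = 0 :=
    Finset.sum_involution (fun a _ => f a) (fun _ _ => by decide) (fun a ha _ => hne a (Set.mem_toFinset.mp ha))
      (fun a ha => Set.mem_toFinset.mpr (hS a (Set.mem_toFinset.mp ha))) fun a ha => hinv a (Set.mem_toFinset.mp ha)
  rw [Finset.sum_const, nsmul_one, ZMod.natCast_eq_zero_iff_even] at h
  rwa [Set.ncard_eq_toFinset_card']

/-- All lines have an odd number of points. -/
theorem Pol.odd_Ln {y x : D} (hne : y ≠ x) (hyx : Com y x) : ¬ Even (Ln y x).ncard := by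
  haveI := P.finD
  intro hev
  obtain ⟨c, hcy, hcx⟩ := P.res y x hne hyx
  have hcne : c ≠ y := fun e => hcx (e ▸ hyx)
  obtain ⟨a, haL, hay, hax⟩ := P.three y x hne hyx
  set M := Ln y c
  have hMy : ∀ m ∈ M, Com m y := fun m hm => P.com_of_mem (Ne.symm hcne) hcy.symm hm (left_mem_Ln y c)
  have hax' : Com x a := P.com_of_mem hne hyx (right_mem_Ln y x) haL
  have hfix : Commute ((x : G) * a) y := Commute.mul_left hyx.symm
    (P.com_of_mem hne hyx haL (left_mem_Ln y x))
  have hsq : ((x : G) * a) * (x * a) = 1 := by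
    have hc : (a : G) * x = x * a := hax'.symm
    calc (x : G) * a * (x * a) = x * a * (a * x) := by rw [hc]
      _ = x * (a * a) * x := by group
      _ = 1 := by rw [P.sq', mul_one, P.sq']
  have hkey : Even (M \ {y}).ncard := by
    refine even_ncard_of_invol (P.cj ((x : G) * a)) ?_ ?_ ?_
    · rintro m ⟨hm, hmy⟩
      have hmy' : m ≠ y := hmy
      refine ⟨?_, ?_⟩
      · have := P.shift y x a m _ (Ne.symm hne) hyx.symm haL hay hmy' (hMy m hm) (P.coe_cj _ _)
        rwa [P.Ln_eq (Ne.symm hcne) hcy.symm (left_mem_Ln y c) hm (Ne.symm hmy')] at this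
      · intro e
        apply hmy'
        have e' : P.cj ((x : G) * a) m = P.cj ((x : G) * a) y := by
          rw [P.cj_eq_self.mpr hfix]; exact e
        exact P.cj_inj.mp e'
    · rintro m ⟨hm, hmy⟩ e
      have h1 := (commute_mul_iff P.cls.1 x.2 a.2 m.2 hax' fun e => hax (Subtype.ext e.symm)).mp
        (P.cj_eq_self.mp e)
      exact P.cross hne hyx hcy hcx hm hmy (right_mem_Ln y x) (Ne.symm hne) h1.1.symm
    · intro m _
      rw [← P.cj_mul, hsq, P.cj_one]
  rw [Set.ncard_sdiff_singleton_of_mem (left_mem_Ln y c)] at hkey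
  have hs := P.size y x y c hne hyx (Ne.symm hcne) hcy.symm
  have hpos : 0 < (Ln y c).ncard := (Set.ncard_pos (Set.toFinite _)).mpr ⟨y, left_mem_Ln y c⟩
  change Even ((Ln y c).ncard - 1) at hkey
  rw [hs] at hev
  obtain ⟨i, hi⟩ := hev
  obtain ⟨j, hj⟩ := hkey
  omega

/-- Two commuting members, neither commuting with a third, move it to a member commuting with it. -/
theorem Pol.com_t_t {y z d : D} (hyz : Com y z) (hdy : ¬ Com d y) (hdz : ¬ Com d z) : Com d (P.t z (P.t y d)) := by
  show (d : G) * (z * (y * d * (y : G)⁻¹) * (z : G)⁻¹) = z * (y * d * (y : G)⁻¹) * (z : G)⁻¹ * d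
  have b1 : (d : G) * z * d = z * d * z := braid P.cls.1 d.2 z.2 hdz
  have b2 : (d : G) * y * d = y * d * y := braid P.cls.1 d.2 y.2 hdy
  have c : (y : G) * z = z * y := hyz
  rw [P.inv', P.inv']
  calc (d : G) * (z * (y * d * y) * z) = d * z * (d * y * d) * z := by rw [b2]; group
    _ = (d * z * d) * y * d * z := by group
    _ = z * d * (y * z) * d * z := by rw [b1, c]; group
    _ = z * d * y * (d * z * d) := by rw [b1]; group
    _ = z * (d * y * d) * z * d := by group
    _ = _ := by rw [b2]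

/-- The polar property: every member commutes with some point of every line. -/
theorem Pol.one {y z : D} (hne : y ≠ z) (hyz : Com y z) (d : D) : ∃ w ∈ Ln y z, Com d w := by
  haveI := P.finD
  by_contra hno
  push Not at hno
  have hdy : ¬ Com d y := hno y (left_mem_Ln y z)
  have hdz : ¬ Com d z := hno z (right_mem_Ln y z)
  set r := P.t y d with hr
  set r' := P.t z d with hr'
  have hne' : r ≠ r' := by
    intro e
    have h1 : Commute ((y : G) * z) d := by
      refine P.cj_eq_self.mp ?_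
      rw [P.cj_mul]
      show P.t y r' = d
      rw [← e]; exact P.t_t y d
    exact hdy ((commute_mul_iff P.cls.1 y.2 z.2 d.2 hyz fun e => hne (Subtype.ext e)).mp h1).1.symm
  have hrr : Com r r' := by
    have key : Com d (P.t z r) := P.com_t_t hyz hdy hdz
    have h1 := (P.com_cj (z : G) _ _).mpr key
    rw [show P.cj (z : G) (P.t z r) = r from P.t_t z r] at h1
    exact Com.symm h1
  have hswap : ∀ u v : D, u ≠ v → Com u v → ¬ Com d u → ¬ Com d v →
      P.cj ((P.t u d : G) * P.t v d) v = u := by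
    intro u v huv hc hu hv
    rw [P.cj_mul]
    have h1 : P.t (P.t v d) v = d := by
      have := P.t_rot (fun h : Com v d => hv h.symm) (rfl : P.t v d = P.t v d)
      exact this.2.2.2.2.1
    have h2 : P.t (P.t u d) d = u := by
      have := P.t_rot (fun h : Com u d => hu h.symm) (rfl : P.t u d = P.t u d)
      exact this.2.2.2.2.2.2
    show P.t (P.t u d) (P.t (P.t v d) v) = u
    rw [h1, h2]
  set g : G := (r : G) * r'
  have hgg : g * g = 1 := by
    have c : (r : G) * r' = r' * r := hrr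
    show (r : G) * r' * (r * r') = 1
    calc (r : G) * r' * (r * r') = r * (r' * r) * r' := by group
      _ = 1 := by rw [← c, ← mul_assoc, P.sq', one_mul, P.sq']
  have hgz : P.cj g z = y := hswap y z hne hyz hdy hdz
  have hgy : P.cj g y = z := by rw [← hgz, ← P.cj_mul, hgg, P.cj_one]
  have hL : ∀ w ∈ Ln y z, P.cj g w ∈ Ln y z := by
    intro w hw
    have h1 := P.cj_Ln g hw
    rwa [hgy, hgz, P.Ln_eq hne hyz (right_mem_Ln y z) (left_mem_Ln y z) (Ne.symm hne)] at h1
  have hkey : Even (Ln y z \ {y, z}).ncard := by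
    refine even_ncard_of_invol (P.cj g) ?_ ?_ ?_
    · rintro w ⟨hw, hwn⟩
      refine ⟨hL w hw, fun e => hwn ?_⟩
      rcases e with e | e
      · exact Or.inr (P.cj_inj.mp (e.trans hgz.symm))
      · exact Or.inl (P.cj_inj.mp ((Set.mem_singleton_iff.mp e).trans hgy.symm))
    · rintro w ⟨hw, -⟩ e
      have h1 := ((commute_mul_iff P.cls.1 r.2 r'.2 w.2 hrr fun e => hne' (Subtype.ext e)).mp
        (P.cj_eq_self.mp e)).1
      have h2 : Com w r := h1.symm
      rw [hr, P.com_t_iff (P.com_of_mem hne hyz hw (left_mem_Ln y z))] at h2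
      exact hno w hw h2.symm
    · intro w _
      rw [← P.cj_mul, hgg, P.cj_one]
  have hsub : {y, z} ⊆ Ln y z := by
    rintro w (rfl | rfl)
    exacts [left_mem_Ln _ _, right_mem_Ln _ _]
  rw [Set.ncard_sdiff hsub, Set.ncard_pair hne] at hkey
  have h2 : 2 ≤ (Ln y z).ncard := (Set.ncard_pair hne).symm.le.trans (Set.ncard_le_ncard hsub)
  exact P.odd_Ln hne hyz (by
    obtain ⟨j, hj⟩ := hkey
    exact ⟨j + 1, by omega⟩)

/-- A member commutes with exactly one point of a line unless it commutes with all. -/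
theorem Pol.unique {a b z z' d : D} (hne : a ≠ b) (hab : Com a b) (hz : z ∈ Ln a b) (hz' : z' ∈ Ln a b)
    (h : Com d z) (h' : Com d z') {w : D} (hw : w ∈ Ln a b) (hd : ¬ Com d w) : z = z' :=
  by_contra fun e => hd (P.all_of_two hne hab hz hz' e h h' hw)

/-! ### The action on the class -/

/-- The conjugation action on the class. -/
def Pol.perm : G →* Equiv.Perm D where
  toFun g := ⟨P.cj g, P.cj g⁻¹, fun a => by rw [← P.cj_mul, inv_mul_cancel, P.cj_one], P.cj_inv_cj g⟩
  map_one' := Equiv.ext P.cj_one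
  map_mul' g h := Equiv.ext (P.cj_mul g h)

theorem Pol.perm_apply (g : G) (a : D) : P.perm g a = P.cj g a := rfl

theorem Pol.perm_injective : Function.Injective P.perm := by
  refine (injective_iff_map_eq_one P.perm).mpr fun g hg => ?_
  have h : g ∈ Subgroup.center G := by
    refine Subgroup.mem_center_iff.mpr fun u => ?_
    induction (P.cls.2.2 ▸ Subgroup.mem_top u : u ∈ Subgroup.closure D) using Subgroup.closure_induction with
    | mem z hz => exact (P.cj_eq_self.mp (Equiv.congr_fun hg ⟨z, hz⟩)).symm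
    | one => simp
    | mul p q _ _ hp hq => rw [mul_assoc, hq, ← mul_assoc, hp, mul_assoc]
    | inv p _ hp => exact (Commute.inv_left hp).eq
  rwa [P.center, Subgroup.mem_bot] at h

/-- A group acting on the class as the group generated by the members' permutations is isomorphic to `G`. -/
theorem Pol.nonempty_mulEquiv {H : Type*} [Group H] (ψ : H →* Equiv.Perm D) (hinj : Function.Injective ψ)
    (hle : ψ.range ≤ P.perm.range) (hge : ∀ d : D, P.perm d ∈ ψ.range) : Nonempty (G ≃* H) := by
  have he : P.perm.range = ψ.range := by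
    refine le_antisymm ?_ hle
    rintro _ ⟨g, rfl⟩
    induction (P.cls.2.2 ▸ Subgroup.mem_top g : g ∈ Subgroup.closure D) using Subgroup.closure_induction with
    | mem z hz => exact hge ⟨z, hz⟩
    | one => rw [map_one]; exact one_mem _
    | mul p q _ _ hp hq => rw [map_mul]; exact mul_mem hp hq
    | inv p _ hp => rw [map_inv]; exact inv_mem hp
  exact ⟨((MonoidHom.ofInjective P.perm_injective).trans (MulEquiv.subgroupCongr he)).trans
    (MonoidHom.ofInjective hinj).symm⟩

end CfsgLib.ThreeT.Tv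

namespace CfsgLib.ThreeT.Tv

variable {G : Type*} [Group G] [Finite G] {D : Set G}

/-- The hypotheses of the transvection case. -/
theorem pol_of (hsol : ∀ N : Subgroup G, N.Normal → Group.IsSolvable N → N = ⊥)
    (hperf : ⁅commutator G, commutator G⁆ = commutator G) (hD : Cfsg.IsThreeTranspositionClass D)
    {x : G} (hx : x ∈ D)
    (h : ¬ Cfsg.pCore 2 ↥(Subgroup.closure {y : G | y ∈ D ∧ y ≠ x ∧ Commute x y}) ≤
      Subgroup.center ↥(Subgroup.closure {y : G | y ∈ D ∧ y ≠ x ∧ Commute x y})) : Pol D := by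
  classical
  haveI : Fact (Nat.Prime 2) := ⟨Nat.prime_two⟩
  have hcenter : Subgroup.center G = ⊥ := by
    refine hsol _ inferInstance ?_
    haveI := isNilpotent_center G
    infer_instance
  have hcore : Cfsg.pCore 2 G = ⊥ := by
    haveI := CfsgLib.Solvable.pCore_normal (G := G) 2
    refine hsol _ inferInstance ?_
    haveI := (CfsgLib.Solvable.isPGroup_pCore (G := G) 2).isNilpotent
    infer_instance
  let A : G → Set G := fun a => {y : G | y ∈ D ∧ y ≠ a ∧ Commute a y}
  have hsome : ∃ a b : D, a ≠ b := by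
    by_contra hcon
    push Not at hcon
    refine h fun n _ => ?_
    have hAe : {y : G | y ∈ D ∧ y ≠ x ∧ Commute x y} = ∅ :=
      Set.eq_empty_of_forall_notMem fun y hy => hy.2.1 (congrArg Subtype.val (hcon ⟨y, hy.1⟩ ⟨x, hx⟩))
    refine Subgroup.mem_center_iff.mpr fun g => ?_
    have hg : (g : G) = 1 := Subgroup.mem_bot.mp (by
      have := g.2; simpa only [hAe, Subgroup.closure_empty] using this)
    rw [show g = 1 from Subtype.ext hg, one_mul, mul_one]
  have hconn := comm_connected hD hsol hperf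
  have h3 := fun a : D => rank_three_of_connected hD hsol hconn hsome a.2
  have hex : ∀ a : D, ∃ b, b ≠ a ∧ Com a b := fun a =>
    let ⟨b, hb, hne, hc⟩ := (h3 a).1
    ⟨⟨b, hb⟩, fun e => hne (congrArg Subtype.val e), hc⟩
  have hcent : ∀ a : G, ∀ g ∈ Subgroup.closure (A a), Commute g a := by
    intro a g hg
    induction hg using Subgroup.closure_induction with
    | mem z hz => exact hz.2.2.symm
    | one => exact Commute.one_left _
    | mul u v _ _ hu hv => exact hu.mul_left hv
    | inv u _ hu => exact hu.inv_left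
  have hAconj : ∀ a : G, ∀ g : G, Commute g a → ∀ y ∈ A a, g * y * g⁻¹ ∈ A a := by
    rintro a g hga y ⟨hy, hya, hay⟩
    have hga' : g * a * g⁻¹ = a := by rw [hga.eq, mul_inv_cancel_right]
    refine ⟨conj_mem hD hy g, fun e => hya ?_, ?_⟩
    · rw [← hga'] at e
      exact mul_left_cancel (mul_right_cancel e)
    · have := (commute_conj_iff g a y).mpr hay
      rwa [hga'] at this
  have hclass : ∀ a : D, Cfsg.IsThreeTranspositionClass
      {z : Subgroup.closure (A a) | (z : G) ∈ A a} := by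
    intro a
    obtain ⟨b, hba, hab⟩ := hex a
    have hbA : (b : G) ∈ A a := ⟨b.2, fun e => hba (Subtype.ext e), hab⟩
    refine ⟨⟨fun z hz => (Subgroup.orderOf_coe z).symm.trans (hD.1.1 _ hz.1), fun u hu v hv =>
      (hD.1.2 _ hu.1 _ hv.1).imp (fun h => Subtype.ext h) fun h => Subtype.ext h⟩,
      ⟨⟨b, Subgroup.subset_closure hbA⟩, hbA, Set.ext fun e => ⟨fun he => ?_, fun he => ?_⟩⟩,
      eq_top_iff.mpr fun z hz0 => ?_⟩
    · obtain ⟨g, hg, hge⟩ := (h3 a).2.2.1 b b.2 e he.1 hbA.2.1 he.2.1 hbA.2.2 he.2.2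
      exact isConj_iff.mpr ⟨⟨g, hg⟩, Subtype.ext hge⟩
    · obtain ⟨g, rfl⟩ := isConj_iff.mp (show IsConj (⟨(b : G), Subgroup.subset_closure hbA⟩ : Subgroup.closure (A a)) e
        from he)
      exact hAconj a g (hcent a g g.2) b hbA
    · clear hz0
      obtain ⟨z, hz⟩ := z
      induction hz using Subgroup.closure_induction with
      | mem y hy => exact Subgroup.subset_closure hy
      | one => exact one_mem _
      | mul u v _ _ hu hv => exact mul_mem hu hv
      | inv u _ hu => exact inv_mem hu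
  have htr : ∀ a b c : D, b ≠ a → Com a b → c ≠ a → Com a c →
      ∃ g : G, Commute g (a : G) ∧ g * b * g⁻¹ = c := fun a b c hb hab hc hac =>
    let ⟨g, hg, hgc⟩ := (h3 a).2.2.1 b b.2 c c.2 (fun e => hb (Subtype.ext e)) (fun e => hc (Subtype.ext e)) hab hac
    ⟨g, hcent a g hg, hgc⟩
  -- any commuting pair is carried to any other
  have hpair : ∀ a b c d : D, a ≠ b → Com a b → c ≠ d → Com c d →
      ∃ g : G, g * a * g⁻¹ = c ∧ g * b * g⁻¹ = d := by
    intro a b c d hab cab hcd ccd
    obtain ⟨g, hg⟩ := exists_conj hD a.2 c.2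
    have hb : g * b * g⁻¹ ≠ c := fun e => hab (Subtype.ext (mul_left_cancel (mul_right_cancel (hg.trans e.symm))))
    have hcb : Commute (c : G) (g * b * g⁻¹) := hg ▸ (commute_conj_iff g _ _).mpr cab
    obtain ⟨k, hk, hkd⟩ := htr c ⟨_, conj_mem hD b.2 g⟩ d (fun e => hb (congrArg Subtype.val e)) hcb
      (Ne.symm hcd) ccd
    refine ⟨k * g, ?_, ?_⟩
    · calc k * g * a * (k * g)⁻¹ = k * (g * a * g⁻¹) * k⁻¹ := by group
        _ = c := by rw [hg, hk.eq, mul_inv_cancel_right]
    · calc k * g * b * (k * g)⁻¹ = k * (g * b * g⁻¹) * k⁻¹ := by group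
        _ = d := hkd
  let cg : G → D → D := fun g a => ⟨_, conj_mem hD a.2 g⟩
  have hback : ∀ g : G, ∀ w : D, cg g (cg g⁻¹ w) = w := fun g w => Subtype.ext (by simp [cg, mul_assoc])
  have hcg : ∀ g : G, ∀ u v : D, Com (cg g u) (cg g v) ↔ Com u v := fun g u v => commute_conj_iff g _ _
  have hLmap : ∀ g : G, ∀ a b : D, Ln (cg g a) (cg g b) = cg g '' Ln a b := by
    intro g a b
    ext z
    constructor
    · intro hz
      refine ⟨cg g⁻¹ z, fun w h1 h2 => ?_, hback g z⟩
      rw [← hcg g, hback]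
      exact hz _ ((hcg g _ _).mpr h1) ((hcg g _ _).mpr h2)
    · rintro ⟨u, hu, rfl⟩ w h1 h2
      rw [← hback g w, hcg] at h1 h2 ⊢
      exact hu _ h1 h2
  have hsize : ∀ a b c d : D, a ≠ b → Com a b → c ≠ d → Com c d → (Ln a b).ncard = (Ln c d).ncard := by
    intro a b c d h1 h2 h3' h4
    obtain ⟨g, hg1, hg2⟩ := hpair a b c d h1 h2 h3' h4
    rw [← (Subtype.ext hg1 : cg g a = c), ← (Subtype.ext hg2 : cg g b = d), hLmap,
      Set.ncard_image_of_injective _ fun u v e =>
        Subtype.ext (mul_left_cancel (mul_right_cancel (congrArg Subtype.val e)))]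
  -- members of the local group with the same neighbours there lie on one line
  have hloc : ∀ a b b' : D, (b : G) ∈ A a → (b' : G) ∈ A a →
      (∀ e : G, e ∈ A a → (Commute (b' : G) e ↔ Commute (b : G) e)) → b' ∈ Ln a b := by
    intro a b b' hb hb' hsame w hwa hwb
    by_cases hw : w = a
    · subst hw; exact hb'.2.2
    · exact ((hsame w ⟨w.2, fun e => hw (Subtype.ext e), hwa.symm⟩).mpr hwb.symm).symm
  have hthree : ∀ a b : D, a ≠ b → Com a b → ∃ c ∈ Ln a b, c ≠ a ∧ c ≠ b := by
    intro a b hab cab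
    obtain ⟨y, hy, hxy⟩ := (h3 ⟨x, hx⟩).1
    have hyA : (⟨y, hy⟩ : D).1 ∈ A x := ⟨hy, hxy⟩
    obtain ⟨v, hv, hvy, hq⟩ := exists_twin (hclass ⟨x, hx⟩) 2 h (d := ⟨y, Subgroup.subset_closure hyA⟩) hyA
    have hsame := same_commuting_of_mem_two_core (hclass ⟨x, hx⟩) hyA hv hq
    have hmem : (⟨(v : G), hv.1⟩ : D) ∈ Ln (⟨x, hx⟩ : D) ⟨y, hy⟩ := by
      refine hloc ⟨x, hx⟩ ⟨y, hy⟩ ⟨v, hv.1⟩ hyA hv fun e he => ?_
      have hs := hsame ⟨e, Subgroup.subset_closure he⟩ he
      exact ⟨fun hc => (hs.mp (Subtype.ext hc)).map (Subgroup.subtype _),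
        fun hc => (hs.mpr (Subtype.ext hc)).map (Subgroup.subtype _)⟩
    obtain ⟨g, hg1, hg2⟩ := hpair ⟨x, hx⟩ ⟨y, hy⟩ a b (fun e => hxy.1 (congrArg Subtype.val e).symm) hxy.2 hab cab
    have hga : cg g ⟨x, hx⟩ = a := Subtype.ext hg1
    have hgb : cg g ⟨y, hy⟩ = b := Subtype.ext hg2
    have hinj : ∀ u w : D, cg g u = cg g w → u = w := fun u w e =>
      Subtype.ext (mul_left_cancel (mul_right_cancel (congrArg Subtype.val e)))
    refine ⟨cg g ⟨v, hv.1⟩, ?_, fun e => ?_, fun e => ?_⟩
    · rw [← hga, ← hgb, hLmap]; exact Set.mem_image_of_mem _ hmem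
    · exact hv.2.1 (congrArg Subtype.val (hinj _ _ (e.trans hga.symm)))
    · exact hvy (Subtype.ext (congrArg (fun t : D => (t : G)) (hinj _ _ (e.trans hgb.symm))))
  have htwo : ∀ a b z z' : D, a ≠ b → Com a b → z ∈ Ln a b → z' ∈ Ln a b → z ≠ z' →
      Com z z' ∧ ∀ d : D, Com d z → Com d z' → Com d a ∧ Com d b := by
    intro a b z z' hab cab hz hz' hne
    have hza : Com z a := (hz a (Commute.refl _) cab).symm
    have hzb : Com z b := (hz b cab.symm (Commute.refl _)).symm
    have hzz : Com z z' := hz' z hza hzb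
    refine ⟨hzz, fun d hdz hdz' => ?_⟩
    have heq : {w : D | Com w a ∧ Com w b} = {w : D | Com w z ∧ Com w z'} := by
      haveI : Finite D := Subtype.finite
      obtain ⟨g, hg1, hg2⟩ := hpair a b z z' hab cab hne hzz
      have hga : cg g a = z := Subtype.ext hg1
      have hgb : cg g b = z' := Subtype.ext hg2
      refine Set.eq_of_subset_of_ncard_le (fun w hw => ⟨hz w hw.1 hw.2, hz' w hw.1 hw.2⟩) ?_
      refine Set.ncard_le_ncard_of_injOn (cg g⁻¹) (fun w hw => ?_) fun u _ w _ e =>
        Subtype.ext (mul_left_cancel (mul_right_cancel (congrArg Subtype.val e)))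
      show Com (cg g⁻¹ w) a ∧ Com (cg g⁻¹ w) b
      rw [← hcg g, ← hcg g (cg g⁻¹ w) b, hback, hga, hgb]
      exact hw
    exact (heq.symm.subset ⟨hdz, hdz'⟩ : d ∈ {w : D | Com w a ∧ Com w b})
  refine ⟨hD, Subtype.finite, hcenter, hex, fun a => ?_, ?_, hsize, hthree, htwo, ?_, ?_⟩
  · obtain ⟨c, hc, hac⟩ := (h3 a).2.1
    exact ⟨⟨c, hc⟩, hac⟩
  · intro a b hab
    have hm := mul_mem_two_core hD a.2 b.2 fun e he => (hab ⟨e, he⟩).symm
    rw [hcore, Subgroup.mem_bot] at hm
    exact Subtype.ext ((inv hD.1 a.2).symm.trans (inv_eq_of_mul_eq_one_right hm))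
  · intro a c hac cac
    by_contra hcon
    push Not at hcon
    refine h fun n _ => Subgroup.mem_center_iff.mpr fun g => ?_
    obtain ⟨k, hk⟩ := exists_conj hD a.2 hx
    have hpw : ∀ u ∈ A x, ∀ v ∈ A x, Commute u v := by
      intro u hu v hv
      have hcA : (cg k c : D).1 ∈ A x := by
        refine ⟨(cg k c).2, fun e => hac (Subtype.ext ?_), ?_⟩
        · have e' : k * c * k⁻¹ = k * a * k⁻¹ := e.trans hk.symm
          exact (mul_left_cancel (mul_right_cancel e')).symm
        · rw [← hk]; exact (commute_conj_iff k _ _).mpr cac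
      have hall : ∀ w ∈ A x, Commute w (cg k c : D) := by
        intro w hw
        have hw' : Com (cg k⁻¹ ⟨w, hw.1⟩) a := by
          rw [← hcg k, hback, show cg k a = ⟨x, hx⟩ from Subtype.ext hk]
          exact hw.2.2.symm
        have := (hcg k _ _).mpr (hcon _ hw')
        rwa [hback] at this
      obtain ⟨g, hg, hgu⟩ := htr ⟨x, hx⟩ (cg k c) ⟨u, hu.1⟩ (fun e => hcA.2.1 (congrArg Subtype.val e)) hcA.2.2
        (fun e => hu.2.1 (congrArg Subtype.val e)) hu.2.2
      have hw := hall _ (hAconj x g⁻¹ hg.inv_left v hv)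
      have := (commute_conj_iff g _ _).mpr hw
      rw [hgu, show g * (g⁻¹ * v * g⁻¹⁻¹) * g⁻¹ = v by group] at this
      exact this.symm
    have hab : ∀ u ∈ Subgroup.closure (A x), ∀ v ∈ Subgroup.closure (A x), Commute u v := by
      intro u hu v hv
      have h1 : ∀ w ∈ A x, Commute w v := by
        intro w hw
        induction hv using Subgroup.closure_induction with
        | mem z hz => exact hpw w hw z hz
        | one => exact Commute.one_right _
        | mul p q _ _ hp hq => exact hp.mul_right hq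
        | inv p _ hp => exact hp.inv_right
      induction hu using Subgroup.closure_induction with
      | mem z hz => exact h1 z hz
      | one => exact Commute.one_left _
      | mul p q _ _ hp hq => exact hp.mul_left hq
      | inv p _ hp => exact hp.inv_left
    exact Subtype.ext (hab g g.2 n n.2)
  · intro y a b c c' hay cay hb hby hcy ccy hc'
    have hbyc : Com b y := (hb y (Commute.refl _) cay.symm).symm
    have haA : (a : G) ∈ A y := ⟨a.2, fun e => hay (Subtype.ext e), cay.symm⟩
    have hbA : (b : G) ∈ A y := ⟨b.2, fun e => hby (Subtype.ext e), hbyc.symm⟩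
    have hcA : (c : G) ∈ A y := ⟨c.2, fun e => hcy (Subtype.ext e), ccy.symm⟩
    have hHc := hclass y
    have hcore' : (⟨a, Subgroup.subset_closure haA⟩ : Subgroup.closure (A y)) * ⟨b, Subgroup.subset_closure hbA⟩ ∈
        Cfsg.pCore 2 (Subgroup.closure (A y)) := by
      refine mul_mem_two_core hHc haA hbA fun e he => ?_
      have hey : Com (⟨(e : G), he.1⟩ : D) y := he.2.2.symm
      refine ⟨fun hc => Subtype.ext ?_, fun hc => Subtype.ext ?_⟩
      · by_cases hne : a = b
        · subst hne; exact (hc.map (Subgroup.subtype _))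
        have := ((htwo y a y b (Ne.symm hay) cay.symm (left_mem_Ln _ _) hb (Ne.symm hby)).2 ⟨e, he.1⟩ hey
          (Commute.symm (hc.map (Subgroup.subtype _)))).2
        exact this.symm
      · exact (hb ⟨e, he.1⟩ hey (Commute.symm (hc.map (Subgroup.subtype _)))).symm
    haveI := CfsgLib.Solvable.pCore_normal (G := Subgroup.closure (A y)) 2
    set n : Subgroup.closure (A y) := ⟨a, Subgroup.subset_closure haA⟩ * ⟨b, Subgroup.subset_closure hbA⟩
    set γ : Subgroup.closure (A y) := ⟨c, Subgroup.subset_closure hcA⟩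
    have hnA : (n : G) * γ * (n : G)⁻¹ ∈ A y := hAconj y n (hcent y n n.2) c hcA
    have hq : γ⁻¹ * (n * γ * n⁻¹) ∈ Cfsg.pCore 2 (Subgroup.closure (A y)) := by
      have := mul_mem ((inferInstance : (Cfsg.pCore 2 (Subgroup.closure (A y))).Normal).conj_mem n hcore' γ⁻¹)
        (inv_mem hcore')
      simpa only [inv_inv, mul_assoc] using this
    have hsame := same_commuting_of_mem_two_core hHc (d := γ) (v := n * γ * n⁻¹) hcA hnA hq
    refine hloc y c c' hcA (by rw [hc']; exact hnA) fun e he => ?_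
    have hs := hsame ⟨e, Subgroup.subset_closure he⟩ he
    constructor
    · intro hce
      exact (hs.mp (Subtype.ext (show (n : G) * γ * (n : G)⁻¹ * e = e * ((n : G) * γ * (n : G)⁻¹) by
        show (a : G) * b * c * ((a : G) * b)⁻¹ * e = e * (a * b * c * ((a : G) * b)⁻¹)
        rw [← hc']; exact hce))).map (Subgroup.subtype _)
    · intro hce
      have := (hs.mpr (Subtype.ext hce)).map (Subgroup.subtype _)
      show Commute (c' : G) e
      rw [hc']
      exact this

end CfsgLib.ThreeT.Tv
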